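import Cfsg.Agent.Lib.Char.Exceptional.Cuspidal.Struct

/-!
# Sums over the primary endomorphisms of a given kind
-/

set_option autoImplicit false
set_option linter.all false

namespace CfsgLib.Cuspidal

open Polynomial

theorem prod_GL_identity (Q : ℤ) {k : ℕ} (hk : 1 ≤ k) :
    -mob Q k * phiN Q k * (Q ^ k - 1) = ∏ i ∈ Finset.range k, (Q ^ k - Q ^ i) := by
  induction k, hk using Nat.le_induction with
  | base => simp [mob]
  | succ k hk ih =>
    rw [Finset.prod_range_succ', pow_zero, Finset.prod_congr rfl (g := fun i => Q * (Q ^ k - Q ^ i)) (fun i _ => by ring),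
      Finset.prod_mul_distrib, Finset.prod_const, Finset.card_range, ← ih, mob_succ, phiN_succ Q hk]
    ring

variable {F V : Type*} [Field F] [Fintype F] [AddCommGroup V] [Module F V] [Finite V] {f : F[X]}

noncomputable instance : Fintype (Module.End F V) :=
  @Fintype.ofFinite _ (Finite.of_injective _ DFunLike.coe_injective)

/-- Some power of the polynomial kills the endomorphism. -/
def Prim (f : F[X]) (T : Module.End F V) : Prop := ∃ N : ℕ, aeval T (f ^ N) = 0

theorem Prim.injective {T : Module.End F V} (h : Prim f T) (h0 : f.coeff 0 ≠ 0) : Function.Injective T := by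
  refine (injective_iff_map_eq_zero T).2 fun v hv => ?_
  obtain ⟨N, hN⟩ := h
  have hP : ∀ P : F[X], aeval T P v = P.coeff 0 • v := by
    intro P
    induction P using Polynomial.induction_on with
    | C a => simp
    | add P Q hP hQ => simp [hP, hQ, add_smul]
    | monomial k a ih =>
      rw [pow_succ, ← mul_assoc, map_mul, aeval_X, Module.End.mul_apply, hv, map_zero, coeff_mul_X_zero, zero_smul]
  have h1 := hP (f ^ N)
  rw [hN, LinearMap.zero_apply, coeff_zero_eq_eval_zero, eval_pow, ← coeff_zero_eq_eval_zero] at h1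
  exact (smul_eq_zero.1 h1.symm).resolve_left (pow_ne_zero _ h0)

open scoped Classical in
/-- The number of automorphisms through the endomorphisms killed by `f`. -/
theorem card_kill_mul [Fact (Irreducible f)] {k : ℕ} (hk : Module.finrank F V = f.natDegree * k) :
    ((Finset.univ.filter fun T : Module.End F V => aeval T f = 0).card : ℤ) *
      ∏ i ∈ Finset.range k, (((Fintype.card F : ℤ) ^ f.natDegree) ^ k - ((Fintype.card F : ℤ) ^ f.natDegree) ^ i) =
      (Nat.card (V ≃ₗ[F] V) : ℤ) := by
  have hirr : Irreducible f := Fact.out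
  have hd : 0 < f.natDegree := hirr.natDegree_pos
  haveI : Module.Finite F (AdjoinRoot f) := (AdjoinRoot.powerBasis hirr.ne_zero).finite
  haveI := finite_L (F := F) hirr.ne_zero
  letI : Fintype (AdjoinRoot f) := Fintype.ofFinite _
  haveI : Module.Finite F V := Module.Finite.of_finite
  set U := Fin k → AdjoinRoot f
  let A : Module.End F U := DistribMulAction.toModuleEnd F U (AdjoinRoot.root f)
  have hA : ∀ (P : F[X]) (u : U), aeval A P u = AdjoinRoot.mk f P • u := by
    intro P
    induction P using Polynomial.induction_on with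
    | C a => intro u; rw [aeval_C, AdjoinRoot.mk_C, Module.algebraMap_end_apply]; exact (algebraMap_smul _ a u).symm
    | add P Q hP hQ => intro u; rw [map_add, map_add, LinearMap.add_apply, hP, hQ, add_smul]
    | monomial j a ih =>
      intro u
      rw [pow_succ, ← mul_assoc, map_mul _ _ (X : F[X]), map_mul _ _ (X : F[X]), aeval_X, Module.End.mul_apply, ih,
        AdjoinRoot.mk_X, mul_smul]
      rfl
  let Φ : (V ≃ₗ[F] U) → {T : Module.End F V // aeval T f = 0} := fun e => ⟨e.symm.conjAlgEquiv F A, by
    rw [Polynomial.aeval_algHom_apply, show aeval A f = 0 from LinearMap.ext fun u => by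
      rw [hA, AdjoinRoot.mk_self, zero_smul]; rfl, map_zero]⟩
  have hiff : ∀ e T, Φ e = T ↔ ∀ v, e (T.1 v) = AdjoinRoot.root f • e v := by
    intro e T
    rw [Subtype.ext_iff, LinearMap.ext_iff]
    refine forall_congr' fun v => ?_
    show e.symm (AdjoinRoot.root f • e v) = T.1 v ↔ _
    rw [LinearEquiv.symm_apply_eq]
    exact eq_comm
  have hcardUU : Nat.card (U ≃ₗ[AdjoinRoot f] U) =
      ∏ i : Fin k, (Fintype.card (AdjoinRoot f) ^ k - Fintype.card (AdjoinRoot f) ^ (i : ℕ)) := by
    rw [← Matrix.card_GL_field]
    exact Nat.card_congr ((LinearMap.GeneralLinearGroup.generalLinearEquiv (AdjoinRoot f) U).symm.toEquiv.trans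
      (Units.mapEquiv (Matrix.toLinAlgEquiv' (R := AdjoinRoot f) (n := Fin k)).symm.toMulEquiv).toEquiv)
  have hfib : ∀ T, Nat.card {e // Φ e = T} = Nat.card (U ≃ₗ[AdjoinRoot f] U) := by
    intro T
    letI := lModule T.2
    haveI := lModule_tower T.2
    haveI : FiniteDimensional (AdjoinRoot f) V := Module.Finite.of_finite
    have hk' : Module.finrank (AdjoinRoot f) V = k :=
      Nat.eq_of_mul_eq_mul_left hd ((finrank_lModule T.2).symm.trans hk)
    have hlin : ∀ e : V ≃ₗ[F] U, (∀ v, e (T.1 v) = AdjoinRoot.root f • e v) → ∀ (c : AdjoinRoot f) v, e (c • v) = c • e v := by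
      intro e he c v
      induction c using AdjoinRoot.induction_on with
      | _ P =>
        rw [lModule_smul, ← hA]
        induction P using Polynomial.induction_on generalizing v with
        | C a => simp
        | add P Q hP hQ => simp [hP, hQ]
        | monomial j a ih =>
          rw [pow_succ, ← mul_assoc, map_mul _ _ (X : F[X]), map_mul _ _ (X : F[X]), aeval_X, aeval_X,
            Module.End.mul_apply, Module.End.mul_apply, ih, he]
          rfl
    let e₀ : V ≃ₗ[AdjoinRoot f] U := LinearEquiv.ofFinrankEq _ _ (by rw [hk', Module.finrank_fin_fun])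
    refine Nat.card_congr
      { toFun := fun e => e₀.symm.trans
          { e.1 with map_smul' := fun c v => hlin e.1 ((hiff _ _).1 e.2) c v }
        invFun := fun h => ⟨(e₀.trans h).restrictScalars F, (hiff _ _).2 fun v => ?_⟩
        left_inv := fun e => Subtype.ext (LinearEquiv.ext fun v => by simp)
        right_inv := fun h => LinearEquiv.ext fun v => by simp }
    show (e₀.trans h) (T.1 v) = AdjoinRoot.root f • (e₀.trans h) v
    rw [← map_smul, ← AdjoinRoot.mk_X, lModule_smul, aeval_X]
  obtain ⟨e₁⟩ : Nonempty (V ≃ₗ[F] U) := ⟨LinearEquiv.ofFinrankEq _ _ (by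
    rw [Module.finrank_pi_fintype, hk, finrank_L hirr.ne_zero, Finset.sum_const, Finset.card_univ, Fintype.card_fin,
      smul_eq_mul, mul_comm])⟩
  have hauto : Nat.card (V ≃ₗ[F] V) = Nat.card (V ≃ₗ[F] U) :=
    Nat.card_congr
      { toFun := fun e => e.trans e₁
        invFun := fun e => e.trans e₁.symm
        left_inv := fun e => LinearEquiv.ext fun v => by simp
        right_inv := fun e => LinearEquiv.ext fun v => by simp }
  haveI : Finite (V ≃ₗ[F] U) := Finite.of_injective _ DFunLike.coe_injective
  letI : Fintype {T : Module.End F V // aeval T f = 0} := Fintype.ofFinite _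
  rw [hauto, Nat.card_congr (Equiv.sigmaFiberEquiv Φ).symm, Nat.card_sigma,
    Finset.sum_congr rfl fun T _ => (hfib T).trans hcardUU, Finset.sum_const, Finset.card_univ, Fintype.card_subtype,
    smul_eq_mul, Nat.cast_mul, Nat.cast_prod]
  congr 1
  rw [← Fin.prod_univ_eq_prod_range]
  refine Finset.prod_congr rfl fun i _ => ?_
  rw [Nat.cast_sub (Nat.pow_le_pow_right Fintype.card_pos i.2.le), Nat.cast_pow, Nat.cast_pow, card_L hirr.ne_zero]

open scoped Classical in
/-- The sum of the squares of the values at the primary endomorphisms. -/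
theorem sum_primary [Fact (Irreducible f)] (h0 : f.coeff 0 ≠ 0) {k : ℕ} (hk : Module.finrank F V = f.natDegree * k)
    (hk0 : 0 < k) :
    (∑ T ∈ Finset.univ.filter (fun T : Module.End F V => Prim f T),
      phiN ((Fintype.card F : ℤ) ^ f.natDegree) (Module.finrank F (LinearMap.ker (aeval T f)) / f.natDegree) *
      phiN ((Fintype.card F : ℤ) ^ f.natDegree) (Module.finrank F (LinearMap.ker (aeval T f)) / f.natDegree)) *
      (((Fintype.card F : ℤ) ^ f.natDegree) ^ k - 1) = (k : ℤ) * (Nat.card (V ≃ₗ[F] V) : ℤ) := by
  haveI : Module.Finite F V := Module.Finite.of_finite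
  have hirr : Irreducible f := Fact.out
  have hd : 0 < f.natDegree := hirr.natDegree_pos
  haveI : Nontrivial V := Module.nontrivial_of_finrank_pos (R := F) (by rw [hk]; positivity)
  set Q := (Fintype.card F : ℤ) ^ f.natDegree with hQ
  let h : Module.End F V → ℤ := fun T => phiN Q (Module.finrank F (LinearMap.ker (aeval T f)) / f.natDegree)
  let j : Submodule F V → ℕ := fun W => Module.finrank F W / f.natDegree
  have hker : ∀ T : Module.End F V, Prim f T → LinearMap.ker (aeval T f) ≠ ⊥ := by
    intro T ⟨N, hN⟩ hb
    have key : ∀ i : ℕ, Function.Injective (aeval T (f ^ i)) := by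
      intro i
      induction i with
      | zero => rw [pow_zero, map_one]; exact Function.injective_id
      | succ i ih => rw [pow_succ, map_mul]; exact ih.comp (LinearMap.ker_eq_bot.1 hb)
    obtain ⟨v, hv⟩ := exists_ne (0 : V)
    exact hv (key N (by simp [hN]))
  -- expand one factor over the invariant subspaces
  have hexp : ∀ T ∈ Finset.univ.filter (fun T : Module.End F V => Prim f T), h T * h T =
      ∑ W ∈ Finset.univ.filter (fun W : Submodule F V => W ≤ LinearMap.ker (aeval T f) ∧ Inv T W),
        -(mob Q (j W) * (j W : ℤ)) * h T := by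
    intro T hT
    simp only [Finset.mem_filter, Finset.mem_univ, true_and] at hT
    rw [← Finset.sum_mul, Finset.sum_neg_distrib,
      (sum_mob_inv (f := f) T _ (inv_ker_aeval T f) fun w hw => hw).2, if_neg (hker T hT), neg_neg]
  show (∑ T ∈ _, h T * h T) * _ = _
  rw [Finset.sum_congr rfl hexp]
  simp only [Finset.sum_filter]
  rw [Finset.sum_congr rfl (fun T _ => show (if Prim f T then ∑ W : Submodule F V,
      (if W ≤ LinearMap.ker (aeval T f) ∧ Inv T W then -(mob Q (j W) * (j W : ℤ)) * h T else 0) else 0) =
      ∑ W : Submodule F V, (if Prim f T ∧ W ≤ LinearMap.ker (aeval T f) ∧ Inv T W then -(mob Q (j W) * (j W : ℤ)) * h T else 0) by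
        split_ifs with hp <;> simp [hp]), Finset.sum_comm, Finset.sum_eq_single (⊤ : Submodule F V)]
  rotate_left
  · intro W _ hW1
    by_cases hW0 : W = ⊥
    · subst hW0; simp [j]
    haveI : Fintype (upper W) := Fintype.ofFinite _
    let P : Module.End F V → Prop := fun T => Prim f T ∧ W ≤ LinearMap.ker (aeval T f) ∧ Inv T W
    show ∑ T, (if P T then -(mob Q (j W) * (j W : ℤ)) * h T else 0) = 0
    have hshift : ∀ (T : Module.End F V) (B : upper W), P T → P (T + (B : Module.End F V)) := by
      rintro T B ⟨⟨N, hN⟩, hle, hI⟩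
      have hI' : Inv (T + (B : Module.End F V)) W := fun w hw => by
        rw [LinearMap.add_apply, B.2.2 w hw, add_zero]; exact hI w hw
      obtain ⟨Λ, hΛ, -⟩ := exists_aeval_add hI f
      obtain ⟨Μ, hΜ, -⟩ := exists_aeval_add hI (f ^ N)
      have hkill : ∀ w ∈ W, aeval (T + (B : Module.End F V)) f w = 0 := fun w hw => by
        rw [hΛ, LinearMap.add_apply, LinearMap.mem_ker.1 (hle hw), (Λ B).2.2 w hw, add_zero]
      refine ⟨⟨N + 1, LinearMap.ext fun v => ?_⟩, fun w hw => hkill w hw, hI'⟩
      rw [pow_succ', map_mul, Module.End.mul_apply, LinearMap.zero_apply]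
      refine hkill _ ?_
      rw [hΜ, hN, zero_add]
      exact (Μ B).2.1 v
    have hzero : ∀ T, P T → ∑ B : upper W, h (T + (B : Module.End F V)) = 0 := by
      rintro T ⟨⟨N, hN⟩, hle, hI⟩
      exact sum_translates (f := f) hI (fun w hw => hle hw) (N := N)
        (fun v => by rw [hN]; exact W.zero_mem) hW0 hW1
    have hcard : (Fintype.card (upper W) : ℤ) * ∑ T, (if P T then -(mob Q (j W) * (j W : ℤ)) * h T else 0) = 0 := by
      calc (Fintype.card (upper W) : ℤ) * ∑ T, (if P T then -(mob Q (j W) * (j W : ℤ)) * h T else 0)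
          = ∑ B : upper W, ∑ T, (if P (T + (B : Module.End F V)) then
              -(mob Q (j W) * (j W : ℤ)) * h (T + (B : Module.End F V)) else 0) := by
            refine ((Finset.sum_congr rfl fun (B : upper W) _ => Equiv.sum_comp (Equiv.addRight (B : Module.End F V))
              (fun T => if P T then -(mob Q (j W) * (j W : ℤ)) * h T else 0)).trans ?_).symm
            rw [Finset.sum_const, Finset.card_univ, nsmul_eq_mul]
        _ = ∑ T, ∑ B : upper W, (if P T then -(mob Q (j W) * (j W : ℤ)) * h (T + (B : Module.End F V)) else 0) := by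
            rw [Finset.sum_comm]
            refine Finset.sum_congr rfl fun T _ => Finset.sum_congr rfl fun B _ => if_congr ⟨fun hP => ?_, hshift T B⟩ rfl rfl
            have := hshift _ (-B) hP
            simpa [add_neg_cancel_right] using this
        _ = 0 := Finset.sum_eq_zero fun T _ => by
            by_cases hP : P T
            · simp only [if_pos hP]
              rw [← Finset.mul_sum, hzero T hP, mul_zero]
            · simp only [if_neg hP, Finset.sum_const_zero]
    exact (mul_eq_zero.1 hcard).resolve_left (by exact_mod_cast Fintype.card_ne_zero)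
  · exact fun hh => absurd (Finset.mem_univ _) hh
  have hjtop : j ⊤ = k := by
    show Module.finrank F (⊤ : Submodule F V) / f.natDegree = k
    rw [finrank_top, hk, Nat.mul_div_cancel_left _ hd]
  have htop : ∀ T : Module.End F V, (Prim f T ∧ ⊤ ≤ LinearMap.ker (aeval T f) ∧ Inv T ⊤) ↔ aeval T f = 0 :=
    fun T => ⟨fun ⟨_, hle, _⟩ => LinearMap.ext fun v => hle (Submodule.mem_top (x := v)),
      fun h0 => ⟨⟨1, by rwa [pow_one]⟩, by rw [h0, LinearMap.ker_zero], fun _ _ => Submodule.mem_top⟩⟩
  simp only [htop]
  rw [← Finset.sum_filter, Finset.sum_congr rfl (g := fun _ => -(mob Q k * (k : ℤ)) * phiN Q k) (fun T hT => by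
    rw [hjtop]
    show _ * phiN Q _ = _
    rw [(Finset.mem_filter.1 hT).2, LinearMap.ker_zero, finrank_top, hk, Nat.mul_div_cancel_left _ hd]),
    Finset.sum_const, nsmul_eq_mul]
  have hid := prod_GL_identity Q hk0
  have hcm := card_kill_mul (f := f) hk
  rw [← hcm, ← hid]
  ring

end CfsgLib.Cuspidal
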