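import Cfsg.Agent.Lib.Blocks.Brauer.Integral
import Cfsg.Agent.Lib.Blocks.PrimePowerClass
import Mathlib.FieldTheory.Finite.Extension

/-!
# Frobenius orbits of roots and lifts of roots of unity
-/

set_option autoImplicit false
set_option linter.all false

namespace CfsgLib.Cuspidal

open Cfsg CfsgLib.Blocks CfsgLib.IBr Polynomial

section Orbit

variable {F k : Type*} [Field F] [Fintype F] [Field k] [Algebra F k] {f : F[X]} {c : k}

theorem frob_add (a b : ℕ) (c : k) :
    c ^ Fintype.card F ^ (a + b) = (c ^ Fintype.card F ^ a) ^ Fintype.card F ^ b := by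
  rw [pow_add, pow_mul]

theorem frob_eq_iff (hf : Irreducible f) (hc : aeval c f = 0) (n : ℕ) :
    c ^ Fintype.card F ^ n = c ↔ f.natDegree ∣ n := by
  rw [hf.natDegree_dvd_iff_dvd_X_pow_card_pow_sub_X (n := n), ← hf.dvd_iff_aeval_eq_zero hc, map_sub, map_pow,
    aeval_X, sub_eq_zero, Nat.card_eq_fintype_card]

theorem aeval_frob (hc : aeval c f = 0) (i : ℕ) : aeval (c ^ Fintype.card F ^ i) f = 0 := by
  induction i with
  | zero => simpa using hc
  | succ i ih => rw [frob_add, pow_one, ← Polynomial.expand_aeval, FiniteField.expand_card, map_pow, ih,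
      zero_pow Fintype.card_ne_zero]

theorem frob_periodic (hf : Irreducible f) (hc : aeval c f = 0) (a b : ℕ) :
    c ^ Fintype.card F ^ (f.natDegree * a + b) = c ^ Fintype.card F ^ b := by
  rw [frob_add, (frob_eq_iff hf hc _).2 (dvd_mul_right _ a)]

theorem frob_injOn (hf : Irreducible f) (hc : aeval c f = 0) :
    Set.InjOn (fun i => c ^ Fintype.card F ^ i) (Finset.range f.natDegree : Set ℕ) := by
  suffices h : ∀ i j, i ≤ j → j < f.natDegree → c ^ Fintype.card F ^ i = c ^ Fintype.card F ^ j → i = j by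
    intro i hi j hj hij
    simp only [Finset.coe_range, Set.mem_Iio] at hi hj
    rcases le_total i j with h' | h'
    · exact h i j h' hj hij
    · exact (h j i h' hi hij.symm).symm
  intro i j hij hj h
  have h1 := congrArg (fun z => z ^ Fintype.card F ^ (f.natDegree - j)) h
  simp only [← frob_add] at h1
  rw [show j + (f.natDegree - j) = f.natDegree by omega, (frob_eq_iff hf hc _).2 dvd_rfl, frob_eq_iff hf hc] at h1
  obtain ⟨e, he⟩ := h1
  rcases Nat.eq_zero_or_pos e with rfl | he0
  · omega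
  · have := Nat.le_mul_of_pos_right f.natDegree he0
    omega

open scoped Classical in
theorem roots_eq_image (hf : Irreducible f) (hc : aeval c f = 0) :
    (f.aroots k).toFinset = (Finset.range f.natDegree).image (fun i => c ^ Fintype.card F ^ i) := by
  refine (Finset.eq_of_subset_of_card_le ?_ ?_).symm
  · intro x hx
    obtain ⟨i, -, rfl⟩ := Finset.mem_image.1 hx
    rw [Multiset.mem_toFinset, mem_aroots]
    exact ⟨hf.ne_zero, aeval_frob hc i⟩
  · rw [Finset.card_image_of_injOn (frob_injOn hf hc), Finset.card_range]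
    refine (Multiset.toFinset_card_le _).trans ((card_roots' _).trans ?_)
    rw [natDegree_map]

open scoped Classical in
/-- Summing over the conjugates through the powers of the Frobenius map. -/
theorem sum_frob (hf : Irreducible f) (hc : aeval c f = 0) (h : k → ℂ) (m : ℕ) :
    ∑ i ∈ Finset.range (f.natDegree * m), h (c ^ Fintype.card F ^ i) =
      (m : ℂ) * ∑ c' ∈ (f.aroots k).toFinset, h c' := by
  induction m with
  | zero => simp
  | succ m ih =>
    rw [mul_add, mul_one, Finset.sum_range_add, ih, roots_eq_image hf hc, Finset.sum_image (frob_injOn hf hc),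
      Finset.sum_congr rfl fun i _ => congrArg h (frob_periodic hf hc m i)]
    push_cast
    ring

end Orbit

section Tau

variable {p : ℕ} {M : Ideal AlgInt} [M.IsPrime]

open scoped Classical in
/-- The root of unity of order prime to `p` over an element of the residue field. -/
noncomputable def tau (p : ℕ) (M : Ideal AlgInt) [M.IsPrime] (c : Res M) : ℂ :=
  if h : ∃ z : localRing M, (∃ o, ¬ p ∣ o ∧ z ^ o = 1) ∧ resHom M z = c then (h.choose : ℂ) else 0

theorem root_unique (hp : p.Prime) (hM : IsPModular p M) {z z' : localRing M} {o o' : ℕ} (ho : ¬ p ∣ o)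
    (ho' : ¬ p ∣ o') (hz : z ^ o = 1) (hz' : z' ^ o' = 1) (h : resHom M z = resHom M z') : z = z' := by
  have hoo : ¬ p ∣ o * o' := fun hd => (hp.dvd_mul.1 hd).elim ho ho'
  have h0 : o * o' ≠ 0 := fun e => hoo (e ▸ dvd_zero p)
  have hzo : z ^ (o * o') = 1 := by rw [pow_mul, hz, one_pow]
  have hzo' : z' ^ (o * o') = 1 := by rw [mul_comm, pow_mul, hz', one_pow]
  have hinv : z' * z' ^ (o * o' - 1) = 1 := by
    rw [← pow_succ', Nat.sub_add_cancel (Nat.one_le_iff_ne_zero.2 h0), hzo']
  have hw := PrimePowerClass.root_eq_one hM h0 hoo (z := z * z' ^ (o * o' - 1))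
    (by rw [mul_pow, hzo, ← pow_mul, mul_comm _ (o * o'), pow_mul, hzo', one_pow, one_mul])
    (by
      show resHom M _ = 1
      rw [map_mul, h, ← map_mul, hinv, map_one])
  calc z = z * z' ^ (o * o' - 1) * z' := by rw [mul_assoc, mul_comm (z' ^ _) z', hinv, mul_one]
    _ = z' := by rw [hw, one_mul]

theorem tau_res (hp : p.Prime) (hM : IsPModular p M) {z : localRing M} {o : ℕ} (ho : ¬ p ∣ o) (hz : z ^ o = 1) :
    tau p M (resHom M z) = (z : ℂ) := by
  have h : ∃ w : localRing M, (∃ o, ¬ p ∣ o ∧ w ^ o = 1) ∧ resHom M w = resHom M z := ⟨z, ⟨o, ho, hz⟩, rfl⟩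
  rw [tau, dif_pos h]
  obtain ⟨⟨o', ho', hw⟩, hr⟩ := h.choose_spec
  exact congrArg Subtype.val (root_unique hp hM ho' ho hw hz hr)

theorem tau_one (hp : p.Prime) (hM : IsPModular p M) : tau p M 1 = 1 := by
  rw [← map_one (resHom M), tau_res hp hM (z := 1) (o := 1) hp.not_dvd_one (one_pow 1)]
  rfl

theorem res_primitive (hM : IsPModular p M) {N : ℕ} (hN : ¬ p ∣ N) :
    IsPrimitiveRoot (resHom M (rootO M N)) N := by
  have hN0 : N ≠ 0 := fun e => hN (e ▸ dvd_zero p)
  have h := isPrimitiveRoot_rootO M hN0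
  refine ⟨by rw [← map_pow, h.pow_eq_one, map_one], fun l hl => ?_⟩
  refine h.dvd_of_pow_eq_one l (PrimePowerClass.root_eq_one hM hN0 hN ?_ (by rw [map_pow]; exact hl))
  rw [← pow_mul, mul_comm, pow_mul, h.pow_eq_one, one_pow]

theorem tau_pow (hp : p.Prime) (hM : IsPModular p M) {N : ℕ} (hN : ¬ p ∣ N) (i : ℕ) :
    tau p M (resHom M (rootO M N) ^ i) = (rootO M N : ℂ) ^ i := by
  have hN0 : N ≠ 0 := fun e => hN (e ▸ dvd_zero p)
  rw [← map_pow, tau_res hp hM hN (by
    rw [← pow_mul, mul_comm, pow_mul, (isPrimitiveRoot_rootO M hN0).pow_eq_one, one_pow]),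
    SubmonoidClass.coe_pow]

theorem exists_pow_eq (hM : IsPModular p M) {N : ℕ} (hN : ¬ p ∣ N) {c : Res M} (hc : c ^ N = 1) :
    ∃ i < N, resHom M (rootO M N) ^ i = c := by
  haveI : NeZero N := ⟨fun e => hN (e ▸ dvd_zero p)⟩
  exact (res_primitive hM hN).eq_pow_of_pow_eq_one hc

theorem tau_mul_pow (hp : p.Prime) (hM : IsPModular p M) {N : ℕ} (hN : ¬ p ∣ N) {c : Res M} (hc : c ^ N = 1) (t : ℕ) :
    tau p M (c ^ t) = tau p M c ^ t := by
  obtain ⟨i, -, rfl⟩ := exists_pow_eq hM hN hc
  rw [← pow_mul, tau_pow hp hM hN, tau_pow hp hM hN, pow_mul]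

theorem tau_pow_eq_one (hp : p.Prime) (hM : IsPModular p M) {N : ℕ} (hN : ¬ p ∣ N) {c : Res M} (hc : c ^ N = 1) :
    tau p M c ^ N = 1 := by
  rw [← tau_mul_pow hp hM hN hc, hc, tau_one hp hM]

end Tau

end CfsgLib.Cuspidal
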