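import Cfsg.Agent.Lib.Char.Exceptional.Cuspidal.Orbit
import Cfsg.Agent.Lib.Blocks.Brauer.Integral

/-!
# The Brauer lift of the natural module and its invariant subspaces
-/

set_option autoImplicit false
set_option linter.all false

namespace CfsgLib.Cuspidal

open Cfsg CfsgLib.Blocks CfsgLib.IBr CfsgLib.Star MonoidAlgebra

variable {n : ℕ} {F : Type*} [Field F] [Fintype F] [DecidableEq F] {p : ℕ} [Fact p.Prime] {M : Ideal AlgInt} [M.IsPrime]
  (ι : F →+* Res M)

/-- The natural representation. -/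
noncomputable def rho : GL (Fin n) F →* Module.End F (Fin n → F) :=
  ((Matrix.toLinAlgEquiv' (R := F) (n := Fin n)).toAlgHom.toRingHom.toMonoidHom).comp (Units.coeHom _)

theorem rho_apply (g : GL (Fin n) F) (v : Fin n → F) :
    rho g v = (g : Matrix (Fin n) (Fin n) F).mulVec v := rfl

/-- The natural representation over the residue field. -/
noncomputable def rhoK : GL (Fin n) F →* Module.End (Res M) (Fin n → Res M) :=
  (((Matrix.toLinAlgEquiv' (R := Res M) (n := Fin n)).toAlgHom.toRingHom.comp ι.mapMatrix).toMonoidHom).comp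
    (Units.coeHom _)

theorem rhoK_apply (g : GL (Fin n) F) (v : Fin n → Res M) :
    rhoK ι g v = ((g : Matrix (Fin n) (Fin n) F).map ι).mulVec v := rfl

theorem rhoK_comp (g : GL (Fin n) F) (v : Fin n → F) :
    rhoK ι g (ι ∘ v) = ι ∘ rho g v := by
  funext i
  exact (RingHom.map_mulVec ι (g : Matrix (Fin n) (Fin n) F) v i).symm

/-- The extension of the representation to the group algebra. -/
noncomputable def algK : MonoidAlgebra (Res M) (GL (Fin n) F) →ₐ[Res M] Module.End (Res M) (Fin n → Res M) :=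
  MonoidAlgebra.lift (Res M) (Module.End (Res M) (Fin n → Res M)) (GL (Fin n) F) (rhoK ι)

theorem algK_single (g : GL (Fin n) F) (c : Res M) : algK ι (single g c) = c • rhoK ι g :=
  MonoidAlgebra.lift_single _ _ _

/-- The extension of scalars of a subspace. -/
noncomputable def bar (W : Submodule F (Fin n → F)) : Submodule (Res M) (Fin n → Res M) :=
  Submodule.span (Res M) ((fun v => ι ∘ v) '' (W : Set (Fin n → F)))

theorem comp_mem_bar {W : Submodule F (Fin n → F)} {v : Fin n → F} (hv : v ∈ W) : ι ∘ v ∈ bar ι W :=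
  Submodule.subset_span ⟨v, hv, rfl⟩

theorem bar_map (g : GL (Fin n) F) (W : Submodule F (Fin n → F)) :
    bar ι (W.map (rho g)) = (bar ι W).map (rhoK ι g) := by
  rw [bar, bar, Submodule.map_span]
  congr 1
  ext x
  simp only [Set.mem_image, SetLike.mem_coe, Submodule.mem_map]
  constructor
  · rintro ⟨_, ⟨v, hv, rfl⟩, rfl⟩
    exact ⟨ι ∘ v, ⟨v, hv, rfl⟩, rhoK_comp ι g v⟩
  · rintro ⟨_, ⟨v, hv, rfl⟩, rfl⟩
    exact ⟨rho g v, ⟨v, hv, rfl⟩, (rhoK_comp ι g v).symm⟩

theorem bar_inv {g : GL (Fin n) F} {W : Submodule F (Fin n → F)} (h : Inv (rho g) W)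
    {x : Fin n → Res M} (hx : x ∈ bar ι W) : rhoK ι g x ∈ bar ι W := by
  have hm : (bar ι W).map (rhoK ι g) ≤ bar ι W := by
    rw [bar, Submodule.map_span]
    refine Submodule.span_le.2 ?_
    rintro _ ⟨_, ⟨v, hv, rfl⟩, rfl⟩
    rw [rhoK_comp]
    exact comp_mem_bar ι (h v hv)
  exact hm (Submodule.mem_map_of_mem hx)

/-- Independence survives an extension of scalars. -/
theorem linearIndependent_comp {r : ℕ} {m : Fin r → (Fin n → F)} (hli0 : LinearIndependent F m) :
    LinearIndependent (Res M) (fun i => ι ∘ m i) := by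
  let A : Matrix (Fin n) ((Fin r)) F := Matrix.of fun c i => m i c
  have hA : Function.Injective A.mulVec := by
    rw [Matrix.mulVec_injective_iff]
    exact hli0
  obtain ⟨B, hB⟩ : ∃ B : Matrix ((Fin r)) (Fin n) F, B * A = 1 := by
    obtain ⟨f, hf⟩ := LinearMap.exists_leftInverse_of_injective (Matrix.toLin' A)
      (LinearMap.ker_eq_bot.2 fun x y h => hA (by simpa using h))
    exact ⟨LinearMap.toMatrix' f, by
      rw [← LinearMap.toMatrix'_toLin' A, ← LinearMap.toMatrix'_comp, hf, LinearMap.toMatrix'_id]⟩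
  have hinj : Function.Injective (A.map ι).mulVec := fun x y h => by
    have hBA : (B.map ι) * (A.map ι) = 1 := by
      rw [← Matrix.map_mul, hB, Matrix.map_one _ (map_zero ι) (map_one ι)]
    have := congrArg (B.map ι).mulVec h
    rwa [Matrix.mulVec_mulVec, Matrix.mulVec_mulVec, hBA, Matrix.one_mulVec, Matrix.one_mulVec] at this
  rw [Matrix.mulVec_injective_iff] at hinj
  convert hinj using 1 <;> first | rfl | (funext i c; simp [A])

theorem finrank_bar (W : Submodule F (Fin n → F)) :
    Module.finrank (Res M) (bar ι W) = Module.finrank F W := by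
  classical
  letI := ι.toAlgebra
  let b := Module.finBasis F W
  have hspan : bar ι W = Submodule.span (Res M) (Set.range fun i => ι ∘ (b i : Fin n → F)) := by
    refine le_antisymm (Submodule.span_le.2 ?_) (Submodule.span_le.2 ?_)
    · rintro _ ⟨v, hv, rfl⟩
      have hs : ι ∘ v = ∑ i, ι (b.repr ⟨v, hv⟩ i) • (ι ∘ (b i : Fin n → F)) := by
        have h := congrArg (fun w : W => (w : Fin n → F)) (b.sum_repr ⟨v, hv⟩)
        simp only [AddSubmonoidClass.coe_finset_sum, Submodule.coe_smul] at h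
        funext c
        have hc := congrFun h c
        simp only [Finset.sum_apply, Pi.smul_apply, smul_eq_mul] at hc
        simp only [Finset.sum_apply, Pi.smul_apply, smul_eq_mul, Function.comp_apply, ← map_mul, ← map_sum, hc]
      show ι ∘ v ∈ _
      rw [hs]
      exact Submodule.sum_mem _ fun i _ => Submodule.smul_mem _ _ (Submodule.subset_span ⟨i, rfl⟩)
    · rintro _ ⟨i, rfl⟩
      exact comp_mem_bar ι (b i).2
  rw [hspan]
  have hli : LinearIndependent (Res M) (fun i => ι ∘ (b i : Fin n → F)) :=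
    linearIndependent_comp ι (b.linearIndependent.map' W.subtype W.ker_subtype)
  rw [finrank_span_eq_card hli, Fintype.card_fin]

/-- The rank of an element of the group algebra on a subspace. -/
noncomputable def rkW (W : Submodule F (Fin n → F)) (e : MonoidAlgebra (Res M) (GL (Fin n) F)) : ℤ :=
  (Module.finrank (Res M) ((bar ι W).map (algK ι e)) : ℤ)

/-- The Brauer lift of the action of an element on an invariant subspace. -/
noncomputable def br (p : ℕ) (W : Submodule F (Fin n → F)) (g : GL (Fin n) F) : ℂ :=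
  brVal p M (rkW ι W) ((pPt p g)⁻¹ * g)

theorem algK_mem_bar {W : Submodule F (Fin n → F)} {S : Subgroup (GL (Fin n) F)}
    (hS : ∀ s ∈ S, Inv (rho s) W) (a : MonoidAlgebra (Res M) S) {x : Fin n → Res M} (hx : x ∈ bar ι W) :
    algK ι (MonoidAlgebra.mapDomainAlgHom (Res M) (Res M) S.subtype a) x ∈ bar ι W := by
  induction a using MonoidAlgebra.induction_on with
  | of s =>
    rw [MonoidAlgebra.of_apply, MonoidAlgebra.mapDomainAlgHom_apply, MonoidAlgebra.mapDomain_single, algK_single,
      one_smul]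
    exact bar_inv ι (hS s s.2) hx
  | add a b ha hb => rw [map_add, map_add, LinearMap.add_apply]; exact Submodule.add_mem _ ha hb
  | smul r a ha => rw [map_smul, map_smul, LinearMap.smul_apply]; exact Submodule.smul_mem _ r ha

theorem rkW_add {W : Submodule F (Fin n → F)} (e f : MonoidAlgebra (Res M) (GL (Fin n) F)) (he : e * e = e)
    (hf : f * f = f) (hef : e * f = 0) (hfe : f * e = 0)
    (hew : ∀ x ∈ bar ι W, algK ι e x ∈ bar ι W) (hfw : ∀ x ∈ bar ι W, algK ι f x ∈ bar ι W) :
    rkW ι W (e + f) = rkW ι W e + rkW ι W f := by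
  set P := algK ι e
  set Q := algK ι f
  have hPP : ∀ x, P (P x) = P x := fun x => by rw [← Module.End.mul_apply, ← map_mul, he]
  have hQQ : ∀ x, Q (Q x) = Q x := fun x => by rw [← Module.End.mul_apply, ← map_mul, hf]
  have hPQ : ∀ x, P (Q x) = 0 := fun x => by rw [← Module.End.mul_apply, ← map_mul, hef, map_zero]; rfl
  have hQP : ∀ x, Q (P x) = 0 := fun x => by rw [← Module.End.mul_apply, ← map_mul, hfe, map_zero]; rfl
  have hsum : (bar ι W).map (algK ι (e + f)) = (bar ι W).map P ⊔ (bar ι W).map Q := by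
    rw [map_add]
    refine le_antisymm ?_ (sup_le ?_ ?_)
    · rintro _ ⟨x, hx, rfl⟩
      exact Submodule.add_mem_sup (Submodule.mem_map_of_mem hx) (Submodule.mem_map_of_mem hx)
    · rintro _ ⟨x, hx, rfl⟩
      exact ⟨P x, hew x hx, by show P (P x) + Q (P x) = P x; rw [hPP, hQP, add_zero]⟩
    · rintro _ ⟨x, hx, rfl⟩
      exact ⟨Q x, hfw x hx, by show P (Q x) + Q (Q x) = Q x; rw [hPQ, hQQ, zero_add]⟩
  have hdis : (bar ι W).map P ⊓ (bar ι W).map Q = ⊥ := by
    rw [eq_bot_iff]
    rintro z ⟨⟨x, hx, rfl⟩, ⟨y, hy, hxy⟩⟩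
    show P x = 0
    rw [← hPP, ← hxy, hPQ]
  have h := Submodule.finrank_sup_add_finrank_inf_eq ((bar ι W).map P) ((bar ι W).map Q)
  rw [hdis, finrank_bot, add_zero] at h
  rw [rkW, rkW, rkW, hsum, h, Nat.cast_add]

theorem rkW_equiv {W : Submodule F (Fin n → F)} (a c : MonoidAlgebra (Res M) (GL (Fin n) F))
    (h1 : a * c * (a * c) = a * c) (h2 : c * a * (c * a) = c * a)
    (haw : ∀ x ∈ bar ι W, algK ι a x ∈ bar ι W) (hcw : ∀ x ∈ bar ι W, algK ι c x ∈ bar ι W) :
    rkW ι W (a * c) = rkW ι W (c * a) := by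
  have key : ∀ a c : MonoidAlgebra (Res M) (GL (Fin n) F), a * c * (a * c) = a * c →
      (∀ x ∈ bar ι W, algK ι c x ∈ bar ι W) →
      Module.finrank (Res M) ((bar ι W).map (algK ι (a * c))) ≤
        Module.finrank (Res M) ((bar ι W).map (algK ι (c * a))) := by
    intro a c hac hcw
    let f : (bar ι W).map (algK ι (a * c)) →ₗ[Res M] (bar ι W).map (algK ι (c * a)) :=
      (algK ι c).restrict (by
        rintro _ ⟨x, hx, rfl⟩
        refine ⟨algK ι c x, hcw x hx, ?_⟩
        show algK ι (c * a) (algK ι c x) = algK ι c (algK ι (a * c) x)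
        rw [← Module.End.mul_apply, ← Module.End.mul_apply, ← map_mul, ← map_mul, mul_assoc])
    refine LinearMap.finrank_le_finrank_of_injective (f := f) ((injective_iff_map_eq_zero f).2 ?_)
    rintro ⟨z, hz⟩ hzero
    obtain ⟨x, hx, rfl⟩ := hz
    have h0 : algK ι c (algK ι (a * c) x) = 0 := congrArg Subtype.val hzero
    refine Subtype.ext ?_
    show algK ι (a * c) x = 0
    calc algK ι (a * c) x = algK ι (a * c * (a * c)) x := by rw [hac]
      _ = algK ι a (algK ι c (algK ι (a * c) x)) := by simp only [map_mul, Module.End.mul_apply]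
      _ = 0 := by rw [h0, map_zero]
  exact congrArg Nat.cast (le_antisymm (key a c h1 hcw) (key c a h2 haw))

theorem pPt_coe {G : Type*} [Group G] [Fintype G] (S : Subgroup G) [Fintype S] (s : S) :
    ((pPt p s : S) : G) = pPt p (s : G) := by
  obtain ⟨u, t, hu, ht, hc, rfl⟩ := exists_decomp (p := p) s
  rw [pPt_mul hu ht hc, Subgroup.coe_mul,
    pPt_mul (show ∃ k, orderOf (u : G) = p ^ k by simpa using hu) (show ¬ p ∣ orderOf (t : G) by simpa using ht)
      (hc.map S.subtype)]

theorem mapDomain_eigIdem {G : Type*} [Group G] (S : Subgroup G) (x : S) (j : ℕ) :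
    MonoidAlgebra.mapDomainAlgHom (Res M) (Res M) S.subtype (eigIdem M x j) = eigIdem M (x : G) j := by
  simp only [eigIdem, eigO, Subgroup.orderOf_coe, Algebra.smul_def, map_mul, map_sum, single_pow,
    red_single, MonoidAlgebra.mapDomainAlgHom_apply]
  refine congrArg₂ (· * ·) ?_ (Finset.sum_congr rfl fun t _ => ?_)
  · simp [red, MonoidAlgebra.one_def]
  · simp

theorem isGen_br (hM : IsPModular p M) (W : Submodule F (Fin n → F)) (S : Subgroup (GL (Fin n) F))
    (hS : ∀ s ∈ S, Inv (rho s) W) :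
    IsGeneralizedCharacter S (fun s : S => br ι p W (s : GL (Fin n) F)) := by
  classical
  haveI : Fintype S := Fintype.ofFinite S
  obtain ⟨D⟩ := nonempty_data (G := S) (M := M)
  set jm := MonoidAlgebra.mapDomainAlgHom (Res M) (Res M) S.subtype with hjm
  set N : MonoidAlgebra (Res M) S → ℤ := fun e => rkW ι W (jm e) with hNdef
  have hmem : ∀ a, ∀ x ∈ bar ι W, algK ι (jm a) x ∈ bar ι W := fun a x hx => algK_mem_bar ι hS a hx
  have hN : ∀ e, e * e = e → N e = ∑ δ, D.rk δ e * N (D.ε δ) :=
    additive_eq_sum_rank D.surj D.nil D.hε D.hεψ N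
      (fun e f he hf hef hfe => by
        simp only [N, map_add]
        exact rkW_add ι _ _ (by rw [← map_mul, he]) (by rw [← map_mul, hf])
          (by rw [← map_mul, hef, map_zero]) (by rw [← map_mul, hfe, map_zero]) (hmem e) (hmem f))
      (fun a c h1 h2 => by
        simp only [N, map_mul]
        exact rkW_equiv ι _ _ (by simp only [← map_mul, h1]) (by simp only [← map_mul, h2]) (hmem a) (hmem c))
  have heq : (fun s : S => br ι p W (s : GL (Fin n) F)) =
      ∑ δ, (N (D.ε δ) : ℂ) • fun s : S => D.phi p δ ((pPt p s)⁻¹ * s) := by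
    funext s
    set t := (pPt p s)⁻¹ * s with ht
    have ht' : (pPt p (s : GL (Fin n) F))⁻¹ * (s : GL (Fin n) F) = (t : GL (Fin n) F) := by
      rw [ht, Subgroup.coe_mul, Subgroup.coe_inv, pPt_coe]
    have hb := congrFun (brVal_eq_sum hM D hN) t
    rw [Finset.sum_apply] at hb ⊢
    simp only [Pi.smul_apply] at hb ⊢
    rw [← hb, br, ht']
    by_cases hx : p ∣ orderOf t
    · rw [brVal_of_singular hx, brVal_of_singular (by rwa [Subgroup.orderOf_coe])]
    rw [brVal_of_regular hx, brVal_of_regular (by rwa [Subgroup.orderOf_coe]), Subgroup.orderOf_coe]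
    refine Finset.sum_congr rfl fun j _ => ?_
    rw [hNdef]
    simp only [hjm, mapDomain_eigIdem]
  rw [heq]
  exact Char.IsGen.sum _ _ fun δ _ => Char.IsGen.intCast_smul _ (phi_ext_isGen hM D δ)

theorem br_conj (hM : IsPModular p M) (k g : GL (Fin n) F) (W : Submodule F (Fin n → F)) :
    br ι p (W.map (rho k)) (k * g * k⁻¹) = br ι p W g := by
  classical
  rw [br, br, IBr.pPt_conj, show (k * pPt p g * k⁻¹)⁻¹ * (k * g * k⁻¹) = k * ((pPt p g)⁻¹ * g) * k⁻¹ by group]
  set x := (pPt p g)⁻¹ * g with hx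
  have ho : orderOf (k * x * k⁻¹) = orderOf x := MulEquiv.orderOf_eq (MulAut.conj k) x
  by_cases hr : p ∣ orderOf x
  · rw [brVal_of_singular hr, brVal_of_singular (show p ∣ orderOf (k * x * k⁻¹) by rw [ho]; exact hr)]
  rw [brVal_of_regular hr, brVal_of_regular (show ¬ p ∣ orderOf (k * x * k⁻¹) by rw [ho]; exact hr), ho]
  refine Finset.sum_congr rfl fun j _ => ?_
  refine congrArg (fun z : ℤ => (rootO M (orderOf x) : ℂ) ^ j * (z : ℂ)) ?_
  rw [eigIdem_conj, rkW, rkW, bar_map, ← Submodule.map_comp, map_mul, map_mul, algK_single, algK_single, one_smul,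
    one_smul]
  have hcancel : (rhoK ι k * algK ι (eigIdem M x j) * rhoK ι k⁻¹) ∘ₗ rhoK ι k =
      rhoK ι k ∘ₗ algK ι (eigIdem M x j) := by
    show rhoK ι k * algK ι (eigIdem M x j) * rhoK ι k⁻¹ * rhoK ι k = rhoK ι k * algK ι (eigIdem M x j)
    rw [mul_assoc, ← map_mul, inv_mul_cancel, map_one, mul_one]
  rw [hcancel, Submodule.map_comp]
  refine congrArg Nat.cast (Submodule.equivMapOfInjective _ (fun a b h => ?_) _).finrank_eq.symm
  have := congrArg (rhoK ι k⁻¹) h
  simpa [← Module.End.mul_apply, ← map_mul] using this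

end CfsgLib.Cuspidal
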