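import Mathlib

/-!
# The alternating sums behind the cuspidal characters of the general linear group
-/

set_option autoImplicit false

namespace CfsgLib.Cuspidal

/-- The product `(1 - q) (1 - q²) ⋯ (1 - q^(l-1))`. -/
def phiN (q : ℤ) (l : ℕ) : ℤ := ∏ i ∈ Finset.Ico 1 l, (1 - q ^ i)

theorem phiN_succ (q : ℤ) {l : ℕ} (hl : 1 ≤ l) : phiN q (l + 1) = phiN q l * (1 - q ^ l) :=
  Finset.prod_Ico_succ_top hl _

@[simp] theorem phiN_one (q : ℤ) : phiN q 1 = 1 := by simp [phiN]

/-- The Moebius function of the lattice of subspaces at dimension `j`. -/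
def mob (q : ℤ) (j : ℕ) : ℤ := (-1) ^ j * q ^ j.choose 2

theorem mob_succ (q : ℤ) (j : ℕ) : mob q (j + 1) = -(q ^ j * mob q j) := by
  rw [mob, mob, Nat.choose_succ_succ' j 1, Nat.choose_one_right, pow_add, pow_succ]
  ring

variable (L : Type*) [Field L] [Fintype L]

/-- The column induction. -/
theorem sum_family_eq_zero (W : Type*) [AddCommGroup W] [Module L W] [Fintype W]
    (hj : 1 ≤ Module.finrank L W) {t : ℕ} (ht : 1 ≤ t) :
    ∑ v : Fin t → W, phiN (Fintype.card L)
      (Module.finrank L W + (t - Module.finrank L (Submodule.span L (Set.range v)))) = 0 := by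
  classical
  haveI : FiniteDimensional L W := Module.Finite.of_finite
  set j := Module.finrank L W with hjdef
  set q := (Fintype.card L : ℤ) with hq
  have step : ∀ s : ℕ, ∑ v : Fin (s + 1) → W, phiN q
      (j + (s + 1 - Module.finrank L (Submodule.span L (Set.range v)))) =
      q ^ j * (1 - q ^ s) * ∑ v : Fin s → W, phiN q (j + (s - Module.finrank L (Submodule.span L (Set.range v)))) := by
    intro s
    rw [← (Fin.consEquiv fun _ : Fin (s + 1) => W).sum_comp, Fintype.sum_prod_type, Finset.sum_comm,
      Finset.mul_sum]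
    refine Finset.sum_congr rfl fun v _ => ?_
    show ∑ b : W, phiN q (j + (s + 1 - Module.finrank L
      (Submodule.span L (Set.range (Fin.cons b v : Fin (s + 1) → W))))) = _
    set S := Submodule.span L (Set.range v) with hS
    set r := Module.finrank L S with hr
    have hrs : r ≤ s := (finrank_range_le_card v).trans_eq (Fintype.card_fin s)
    have hrj : r ≤ j := Submodule.finrank_le _
    have hspan : ∀ b : W, Submodule.span L (Set.range (Fin.cons b v : Fin (s + 1) → W)) = Submodule.span L {b} ⊔ S := by
      intro b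
      rw [Fin.range_cons, Submodule.span_insert]
    have hval : ∀ b : W, Module.finrank L (Submodule.span L {b} ⊔ S : Submodule L W) = if b ∈ S then r else r + 1 := by
      intro b
      split_ifs with hb
      · rw [sup_eq_right.2 ((Submodule.span_singleton_le_iff_mem _ _).2 hb)]
      · have hb0 : b ≠ 0 := fun h => hb (h ▸ S.zero_mem)
        have hdis : Submodule.span L {b} ⊓ S = ⊥ :=
          disjoint_iff.1 ((Submodule.disjoint_span_singleton' hb0).2 hb).symm
        have := Submodule.finrank_sup_add_finrank_inf_eq (Submodule.span L {b}) S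
        rw [hdis, finrank_bot, finrank_span_singleton hb0, add_zero] at this
        omega
    have hrw : ∀ b : W, Module.finrank L (Submodule.span L (Set.range (Fin.cons b v : Fin (s + 1) → W))) =
        if b ∈ S then r else r + 1 := fun b => (LinearEquiv.ofEq _ _ (hspan b)).finrank_eq.trans (hval b)
    simp only [hrw]
    have hl : 1 ≤ j + (s - r) := by omega
    have he : ∀ b : W, phiN q (j + (s + 1 - if b ∈ S then r else r + 1)) =
        phiN q (j + (s - r)) * (if b ∈ S then 1 - q ^ (j + (s - r)) else 1) := by
      intro b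
      split_ifs with hb
      · rw [show j + (s + 1 - r) = j + (s - r) + 1 by omega, phiN_succ q hl]
      · rw [show s + 1 - (r + 1) = s - r by omega, mul_one]
    rw [Finset.sum_congr rfl fun b _ => he b, ← Finset.mul_sum, Finset.sum_ite, Finset.sum_const,
      Finset.sum_const, nsmul_eq_mul, nsmul_eq_mul, mul_one]
    have hcS : ((Finset.univ.filter fun b : W => b ∈ S).card : ℤ) = q ^ r := by
      rw [← Fintype.card_subtype, Module.card_eq_pow_finrank (K := L)]
      push_cast
      rfl
    have hcN : ((Finset.univ.filter fun b : W => b ∉ S).card : ℤ) = q ^ j - q ^ r := by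
      have h := Finset.card_filter_add_card_filter_not (s := (Finset.univ : Finset W)) (fun b => b ∈ S)
      rw [Finset.card_univ, Module.card_eq_pow_finrank (K := L) (V := W), ← hjdef] at h
      have h' := congrArg (fun x : ℕ => (x : ℤ)) h
      push_cast at h'
      rw [hcS] at h'
      linarith
    rw [hcS, hcN]
    have hpow : q ^ r * q ^ (j + (s - r)) = q ^ j * q ^ s := by
      rw [← pow_add, ← pow_add, show r + (j + (s - r)) = j + s by omega]
    linear_combination (-phiN q (j + (s - r))) * hpow
  obtain ⟨s, rfl⟩ : ∃ s, t = s + 1 := ⟨t - 1, by omega⟩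
  clear ht
  induction s with
  | zero => rw [step 0]; simp
  | succ s ih => rw [step (s + 1), ih, mul_zero]

/-- Linear maps in place of families of vectors. -/
theorem sum_linearMap_eq_zero (Y W : Type*) [AddCommGroup Y] [Module L Y] [FiniteDimensional L Y]
    [AddCommGroup W] [Module L W] [Fintype W] [Fintype (Y →ₗ[L] W)]
    (hj : 1 ≤ Module.finrank L W) (ht : 1 ≤ Module.finrank L Y) :
    ∑ Z : Y →ₗ[L] W, phiN (Fintype.card L)
      (Module.finrank L W + Module.finrank L (LinearMap.ker Z)) = 0 := by
  classical
  let b := Module.finBasis L Y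
  rw [← sum_family_eq_zero L W hj ht]
  refine (Fintype.sum_equiv ((b.constr ℕ).toEquiv) _ _ fun v => ?_).symm
  have h1 : LinearMap.range (b.constr ℕ v) = Submodule.span L (Set.range v) := b.constr_range ℕ
  have h2 := LinearMap.finrank_range_add_finrank_ker (b.constr ℕ v)
  rw [h1] at h2
  show phiN _ (_ + (_ - _)) = phiN _ (_ + Module.finrank L (LinearMap.ker (b.constr ℕ v)))
  congr 2
  omega

section Lattice

variable {L} {V : Type*} [AddCommGroup V] [Module L V] [Finite V] [Fintype (Submodule L V)]

/-- Subspaces of `K` against a hyperplane `H` of `K`. -/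
theorem sum_hyperplane (K H : Submodule L V) (hHK : H ≤ K)
    (hdim : Module.finrank L H + 1 = Module.finrank L K) (F : ℕ → ℤ) [DecidablePred fun X : Submodule L V => X ≤ K]
    [DecidablePred fun X : Submodule L V => X ≤ H] :
    ∑ X ∈ Finset.univ.filter (fun X : Submodule L V => X ≤ K), F (Module.finrank L X) =
      ∑ X ∈ Finset.univ.filter (fun X : Submodule L V => X ≤ H),
        (F (Module.finrank L X) + (Fintype.card L : ℤ) ^ (Module.finrank L H - Module.finrank L X) *
          F (Module.finrank L X + 1)) := by
  classical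
  haveI : FiniteDimensional L V := Module.Finite.of_finite
  haveI := Fintype.ofFinite V
  rw [← Finset.sum_filter_add_sum_filter_not _ (fun X : Submodule L V => X ≤ H), Finset.sum_add_distrib]
  congr 1
  · refine Finset.sum_congr (Finset.ext fun X => ?_) fun _ _ => rfl
    simp only [Finset.mem_filter, Finset.mem_univ, true_and]
    exact ⟨fun h => h.2, fun h => ⟨h.trans hHK, h⟩⟩
  rw [← Finset.sum_fiberwise_of_maps_to (t := Finset.univ.filter (fun X : Submodule L V => X ≤ H))
    (g := fun X => X ⊓ H) (fun X _ => by simp)]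
  refine Finset.sum_congr rfl fun X₀ hX₀ => ?_
  simp only [Finset.mem_filter, Finset.mem_univ, true_and] at hX₀
  have hmem : ∀ X : Submodule L V, X ∈ ((Finset.univ.filter (fun X : Submodule L V => X ≤ K)).filter
      (fun X => ¬ X ≤ H)).filter (fun X => X ⊓ H = X₀) ↔ (X ≤ K ∧ ¬ X ≤ H ∧ X ⊓ H = X₀) := by
    intro X; simp [and_assoc]
  have hfin : ∀ X : Submodule L V, X ≤ K → ¬ X ≤ H →
      Module.finrank L X = Module.finrank L (X ⊓ H : Submodule L V) + 1 ∧ X ⊔ H = K := by
    intro X hXK hXH
    have hlt : H < X ⊔ H := right_lt_sup.2 hXH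
    have h1 := Submodule.finrank_lt_finrank_of_lt hlt
    have h2 : Module.finrank L (X ⊔ H : Submodule L V) ≤ Module.finrank L K := Submodule.finrank_mono (sup_le hXK hHK)
    have h3 := Submodule.finrank_sup_add_finrank_inf_eq X H
    exact ⟨by omega, Submodule.eq_of_le_of_finrank_eq (sup_le hXK hHK) (by omega)⟩
  rw [Finset.sum_congr rfl (g := fun _ => F (Module.finrank L X₀ + 1)) (fun X hX => by
    obtain ⟨h1, h2, h3⟩ := (hmem X).1 hX
    rw [(hfin X h1 h2).1, h3]), Finset.sum_const, nsmul_eq_mul]
  congr 1
  -- count the extensions of `X₀`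
  set A := ((Finset.univ.filter (fun X : Submodule L V => X ≤ K)).filter
      (fun X => ¬ X ≤ H)).filter (fun X => X ⊓ H = X₀) with hA
  set T := Finset.univ.filter (fun v : V => v ∈ K ∧ v ∉ H) with hT
  have hcard : ∀ S : Submodule L V, ((Finset.univ.filter fun v : V => v ∈ S).card : ℤ) =
      (Fintype.card L : ℤ) ^ Module.finrank L S := by
    intro S
    rw [← Fintype.card_subtype, Module.card_eq_pow_finrank (K := L)]
    push_cast
    rfl
  have hdiff : ∀ S S' : Submodule L V, S' ≤ S → ((Finset.univ.filter fun v : V => v ∈ S ∧ v ∉ S').card : ℤ) =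
      (Fintype.card L : ℤ) ^ Module.finrank L S - (Fintype.card L : ℤ) ^ Module.finrank L S' := by
    intro S S' hle
    rw [← hcard, ← hcard, show (Finset.univ.filter fun v : V => v ∈ S ∧ v ∉ S') =
      (Finset.univ.filter fun v : V => v ∈ S) \ (Finset.univ.filter fun v : V => v ∈ S') by ext; simp,
      Finset.card_sdiff_of_subset (fun v hv => by simp only [Finset.mem_filter, Finset.mem_univ, true_and] at hv ⊢; exact hle hv),
      Nat.cast_sub (Finset.card_le_card (fun v hv => by simp only [Finset.mem_filter, Finset.mem_univ, true_and] at hv ⊢; exact hle hv))]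
  have hext : ∀ v ∈ T, X₀ ⊔ Submodule.span L {v} ∈ A := by
    intro v hv
    simp only [hT, Finset.mem_filter, Finset.mem_univ, true_and] at hv
    refine (hmem _).2 ⟨sup_le (hX₀.trans hHK) ((Submodule.span_singleton_le_iff_mem _ _).2 hv.1),
      fun h => hv.2 ((Submodule.span_singleton_le_iff_mem _ _).1 (le_sup_right.trans h)), ?_⟩
    rw [sup_inf_assoc_of_le _ hX₀, show Submodule.span L {v} ⊓ H = ⊥ from
      disjoint_iff.1 ((Submodule.disjoint_span_singleton' (fun h => hv.2 (by rw [h]; exact H.zero_mem))).2 hv.2).symm, sup_bot_eq]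
  have hfib : ∀ X ∈ A, T.filter (fun v => X₀ ⊔ Submodule.span L {v} = X) =
      Finset.univ.filter (fun v : V => v ∈ X ∧ v ∉ H) := by
    intro X hX
    obtain ⟨h1, h2, h3⟩ := (hmem X).1 hX
    ext v
    simp only [hT, Finset.mem_filter, Finset.mem_univ, true_and]
    refine ⟨fun ⟨⟨_, hv⟩, he⟩ => ⟨he ▸ Submodule.mem_sup_right (Submodule.mem_span_singleton_self v), hv⟩,
      fun ⟨hv, hvH⟩ => ⟨⟨h1 hv, hvH⟩, ?_⟩⟩
    have hle : X₀ ⊔ Submodule.span L {v} ≤ X :=
      sup_le (h3 ▸ inf_le_left) ((Submodule.span_singleton_le_iff_mem _ _).2 hv)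
    refine Submodule.eq_of_le_of_finrank_eq hle ?_
    have hd : Disjoint X₀ (Submodule.span L {v}) :=
      (Submodule.disjoint_span_singleton' (fun h => hvH (by rw [h]; exact H.zero_mem))).2 fun h => hvH (hX₀ h)
    have := Submodule.finrank_sup_add_finrank_inf_eq X₀ (Submodule.span L {v})
    rw [disjoint_iff.1 hd, finrank_bot, finrank_span_singleton (fun h => hvH (by rw [h]; exact H.zero_mem)), add_zero] at this
    rw [this, (hfin X h1 h2).1, h3]
  have hsum := congrArg (fun x : ℕ => (x : ℤ)) (Finset.card_eq_sum_card_fiberwise hext)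
  rw [Nat.cast_sum, hT, hdiff K H hHK, Finset.sum_congr rfl
    (g := fun _ => (Fintype.card L : ℤ) ^ (Module.finrank L X₀ + 1) - (Fintype.card L : ℤ) ^ Module.finrank L X₀) (fun X hX => by
      rw [← hT, hfib X hX]
      obtain ⟨h1, h2, h3⟩ := (hmem X).1 hX
      rw [show (Finset.univ.filter fun v : V => v ∈ X ∧ v ∉ H) =
        (Finset.univ.filter fun v : V => v ∈ X ∧ v ∉ X₀) from Finset.filter_congr fun v _ => by
          rw [← h3, Submodule.mem_inf]; tauto, hdiff X X₀ (h3 ▸ inf_le_left), (hfin X h1 h2).1, h3]),
    Finset.sum_const, nsmul_eq_mul, ← hdim] at hsum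
  set q := (Fintype.card L : ℤ) with hq
  have hq1 : 1 < q := by rw [hq]; exact_mod_cast Fintype.one_lt_card
  have hle0 : Module.finrank L X₀ ≤ Module.finrank L H := Submodule.finrank_mono hX₀
  refine mul_right_cancel₀ (mul_ne_zero (pow_ne_zero (Module.finrank L X₀) (ne_of_gt (by linarith : (0:ℤ) < q))) (sub_ne_zero.2 hq1.ne')) ?_
  calc (A.card : ℤ) * (q ^ Module.finrank L X₀ * (q - 1)) = q ^ Module.finrank L H * (q - 1) := by
        rw [pow_succ, pow_succ] at hsum
        linear_combination -hsum
    _ = _ := by
        rw [← mul_assoc, ← pow_add, Nat.sub_add_cancel hle0]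

/-- The Moebius numbers sum to zero, and weighted by the dimension to the product. -/
theorem sum_mob (K : Submodule L V) [DecidablePred fun X : Submodule L V => X ≤ K] :
    (∑ X ∈ Finset.univ.filter (fun X : Submodule L V => X ≤ K), mob (Fintype.card L) (Module.finrank L X) =
      if Module.finrank L K = 0 then 1 else 0) ∧
    (∑ X ∈ Finset.univ.filter (fun X : Submodule L V => X ≤ K),
      mob (Fintype.card L) (Module.finrank L X) * (Module.finrank L X : ℤ) =
      if Module.finrank L K = 0 then 0 else -phiN (Fintype.card L) (Module.finrank L K)) := by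
  classical
  haveI : FiniteDimensional L V := Module.Finite.of_finite
  suffices hmain : ∀ (l : ℕ) (K : Submodule L V), Module.finrank L K = l →
    (∑ X ∈ Finset.univ.filter (fun X : Submodule L V => X ≤ K), mob (Fintype.card L) (Module.finrank L X) =
      if l = 0 then 1 else 0) ∧
    (∑ X ∈ Finset.univ.filter (fun X : Submodule L V => X ≤ K),
      mob (Fintype.card L) (Module.finrank L X) * (Module.finrank L X : ℤ) =
      if l = 0 then 0 else -phiN (Fintype.card L) l) by
    convert hmain _ K rfl
  intro l
  induction l with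
  | zero =>
    intro K hK
    have hbot : K = ⊥ := Submodule.finrank_eq_zero.1 hK
    have he : Finset.univ.filter (fun X : Submodule L V => X ≤ K) = {⊥} := by ext X; simp [hbot]
    simp [he, mob]
  | succ l ih =>
    intro K hK
    obtain ⟨H, hH, hdim⟩ : ∃ H ≤ K, Module.finrank L H + 1 = Module.finrank L K := by
      haveI : FiniteDimensional L K := Module.Finite.of_finite
      obtain ⟨v, hv, hv0⟩ := Submodule.exists_mem_ne_zero_of_ne_bot (fun h : K = ⊥ => by
        rw [h, finrank_bot] at hK; omega)
      obtain ⟨C, hC⟩ := Submodule.exists_isCompl (Submodule.span L {(⟨v, hv⟩ : K)})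
      refine ⟨C.map K.subtype, Submodule.map_subtype_le _ _, ?_⟩
      have := Submodule.finrank_add_eq_of_isCompl hC
      rw [finrank_span_singleton (fun h => hv0 (congrArg Subtype.val h))] at this
      rw [(Submodule.equivMapOfInjective _ K.subtype_injective C).finrank_eq.symm]
      omega
    obtain ⟨hA, hD⟩ := ih H (by omega)
    set q := (Fintype.card L : ℤ) with hq
    have hl : Module.finrank L H = l := by omega
    have key : ∀ X ∈ Finset.univ.filter (fun X : Submodule L V => X ≤ H),
        q ^ (Module.finrank L H - Module.finrank L X) * mob q (Module.finrank L X + 1) =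
          -(q ^ l * mob q (Module.finrank L X)) := by
      intro X hX
      simp only [Finset.mem_filter, Finset.mem_univ, true_and] at hX
      rw [mob_succ, mul_neg, ← mul_assoc, ← pow_add, Nat.sub_add_cancel (Submodule.finrank_mono hX), hl]
    constructor
    · rw [sum_hyperplane K H hH hdim (fun j => mob q j), Finset.sum_add_distrib,
        Finset.sum_congr rfl key, Finset.sum_neg_distrib, ← Finset.mul_sum, hA]
      rcases l with _ | l <;> simp
    · have h := sum_hyperplane K H hH hdim (fun j => mob q j * (j : ℤ))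
      have key2 : ∀ X ∈ Finset.univ.filter (fun X : Submodule L V => X ≤ H),
          q ^ (Module.finrank L H - Module.finrank L X) *
            (mob q (Module.finrank L X + 1) * ((Module.finrank L X + 1 : ℕ) : ℤ)) =
          -(q ^ l * (mob q (Module.finrank L X) * (Module.finrank L X : ℤ))) +
            -(q ^ l * mob q (Module.finrank L X)) := by
        intro X hX
        rw [← mul_assoc, key X hX]
        push_cast
        ring
      rw [h, Finset.sum_add_distrib, Finset.sum_congr rfl key2, Finset.sum_add_distrib,
        Finset.sum_neg_distrib, Finset.sum_neg_distrib, ← Finset.mul_sum, ← Finset.mul_sum, hA, hD,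
        if_neg (Nat.succ_ne_zero l)]
      rcases l with _ | l
      · simp
      · simp only [Nat.succ_ne_zero, if_false]
        rw [phiN_succ q (by omega : 1 ≤ l + 1)]
        ring

end Lattice

end CfsgLib.Cuspidal
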