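import Cfsg.Agent.Lib.Char.Exceptional.Cuspidal.Norm
import Cfsg.Agent.Lib.ZStar.PrincipalBlock

/-!
# Counting cuspidal characters of the general linear group
-/

set_option autoImplicit false
set_option linter.all false

namespace CfsgLib.Cuspidal

open Cfsg CfsgLib.Blocks CfsgLib.IBr CfsgLib.Star

/-- An automorphism of the complex numbers carries characters to characters. -/
theorem isCharacter_aut {G : Type*} [Group G] (σ : ℂ ≃+* ℂ) {χ : G → ℂ} (h : IsCharacter G χ) :
    IsCharacter G (fun g => σ (χ g)) := by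
  obtain ⟨m, ρ, rfl⟩ := h
  let f : Module.End ℂ (Fin m → ℂ) →* Module.End ℂ (Fin m → ℂ) :=
    ((Matrix.toLinAlgEquiv' (R := ℂ) (n := Fin m)).toRingEquiv.toRingHom.comp
      ((RingHom.mapMatrix σ.toRingHom).comp
        (Matrix.toLinAlgEquiv' (R := ℂ) (n := Fin m)).symm.toRingEquiv.toRingHom)).toMonoidHom
  refine ⟨m, f.comp ρ, funext fun g => ?_⟩
  show LinearMap.trace ℂ _ (f (ρ g)) = σ (LinearMap.trace ℂ _ (ρ g))
  conv_rhs => rw [LinearMap.trace_eq_matrix_trace ℂ (Pi.basisFun ℂ (Fin m)), LinearMap.toMatrix_eq_toMatrix']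
  rw [LinearMap.trace_eq_matrix_trace ℂ (Pi.basisFun ℂ (Fin m)), LinearMap.toMatrix_eq_toMatrix']
  show Matrix.trace (LinearMap.toMatrix' (Matrix.toLin' ((LinearMap.toMatrix' (ρ g)).map σ))) = _
  rw [LinearMap.toMatrix'_toLin', Matrix.trace, Matrix.trace, map_sum]
  rfl

theorem isGen_aut {G : Type*} [Group G] (σ : ℂ ≃+* ℂ) {θ : G → ℂ} (h : IsGeneralizedCharacter G θ) :
    IsGeneralizedCharacter G (fun g => σ (θ g)) := by
  obtain ⟨a, b, ha, hb, rfl⟩ := h
  exact ⟨_, _, isCharacter_aut σ ha, isCharacter_aut σ hb, funext fun g => by simp⟩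

theorem frob_lt_bigN {q n i : ℕ} (hq : 2 ≤ q) (hn : 2 ≤ n) (hi : i < n) : q ^ i < q ^ n - 1 := by
  obtain ⟨m, rfl⟩ : ∃ m, n = m + 1 := ⟨n - 1, by omega⟩
  have h1 : q ^ i ≤ q ^ m := Nat.pow_le_pow_right (by omega) (by omega)
  have h2 : 2 * q ^ m ≤ q ^ (m + 1) := by rw [pow_succ']; exact Nat.mul_le_mul_right _ hq
  have h3 : 2 ≤ q ^ m := le_trans hq (Nat.le_self_pow (by omega) q)
  omega

open scoped Classical in
theorem count_cuspidal {F : Type*} [Field F] [Fintype F] [DecidableEq F] (n : ℕ) (hn : 2 ≤ n) :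
    Nat.totient (Fintype.card F ^ n - 1) / n ≤
      Nat.card {χ : Cfsg.IrrCharacter (GL (Fin n) F) //
        (χ : GL (Fin n) F → ℂ) 1 = ∏ i ∈ Finset.Ico 1 n, ((Fintype.card F : ℂ) ^ i - 1) ∧
        ∀ m : ℕ, 0 < m → m < n →
          (∑ g : GL (Fin n) F,
            if (∀ i j : Fin n, ¬ (i.val < m ∧ m ≤ j.val) → (g : Matrix (Fin n) (Fin n) F) i j = (1 : Matrix (Fin n) (Fin n) F) i j)
            then (χ : GL (Fin n) F → ℂ) g else 0) = 0} := by
  -- the residue field
  set p := ringChar F with hpdef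
  haveI : CharP F p := ringChar.charP F
  haveI hp : Fact p.Prime := ⟨CharP.char_is_prime F p⟩
  obtain ⟨M, hM⟩ := ZStar.exists_isPModular hp.out
  haveI := hM.2.1.isPrime
  haveI : CharP (Res M) p := charP_residueField hM
  haveI : IsAlgClosed (Res M) := isAlgClosed_res
  letI : Algebra (ZMod p) F := ZMod.algebra F p
  letI : Algebra (ZMod p) (Res M) := ZMod.algebra (Res M) p
  haveI : Algebra.IsAlgebraic (ZMod p) F := by
    haveI : Module.Finite (ZMod p) F := Module.Finite.of_finite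
    infer_instance
  let ι : F →+* Res M := (IsAlgClosed.lift : F →ₐ[ZMod p] Res M).toRingHom
  set q := Fintype.card F with hq
  have hq2 : 2 ≤ q := Fintype.one_lt_card
  set N := q ^ n - 1 with hN
  have hN1 : 1 < N := lt_of_le_of_lt (Nat.one_le_pow 1 q (by omega)) (frob_lt_bigN hq2 hn (by omega : 1 < n))
  have hNp : ¬ p ∣ N := not_dvd_bigN (F := F) (p := p) (by omega)
  have hωp : IsPrimitiveRoot (rootO M N : ℂ) N :=
    (isPrimitiveRoot_rootO M (by omega)).map_of_injective (f := (localRing M).subtype) Subtype.val_injective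
  set s : ℂ := (((-1) ^ (n - 1) : ℤ) : ℂ) with hs
  have hss : s * starRingEnd ℂ s = 1 := by
    rw [hs, map_intCast, ← Int.cast_mul, ← mul_pow, neg_mul_neg, one_mul, one_pow, Int.cast_one]
  set T := (Finset.range N).filter (fun a => N.Coprime a) with hT
  have hT' : ∀ a ∈ T, a < N ∧ a.Coprime N := fun a ha => by
    rw [hT, Finset.mem_filter, Finset.mem_range] at ha; exact ⟨ha.1, ha.2.symm⟩
  choose σ hσ using fun a : {a // a ∈ T} => ComplexAut.exists_aut (by omega : N ≠ 0) hωp (hT' a.1 a.2).2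
  let θ : {a // a ∈ T} → GL (Fin n) F → ℂ := fun a g => σ a (jFun ι p g)
  have hinner : ∀ a b, classInner (θ a) (θ b) =
      (((Finset.range n).filter fun i => a.1 % N = b.1 * q ^ i % N).card : ℂ) := fun a b =>
    inner_conjugates ι hM (by omega) a.1 b.1 (σ a) (σ b) (hσ a) (hσ b)
  have hself : ∀ a, classInner (θ a) (θ a) = 1 := by
    intro a
    rw [hinner, show ((Finset.range n).filter fun i => a.1 % N = a.1 * q ^ i % N) = {0} from ?_,
      Finset.card_singleton, Nat.cast_one]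
    ext i
    simp only [Finset.mem_filter, Finset.mem_range, Finset.mem_singleton]
    refine ⟨fun ⟨hi, he⟩ => ?_, fun h => by subst h; exact ⟨by omega, by rw [pow_zero, mul_one]⟩⟩
    have hmod : a.1 * 1 ≡ a.1 * q ^ i [MOD N] := by rw [mul_one]; exact he
    have h1 := Nat.ModEq.cancel_left_of_coprime ((hT' a.1 a.2).2.symm) hmod
    rw [Nat.ModEq, Nat.mod_eq_of_lt (frob_lt_bigN hq2 hn hi), Nat.mod_eq_of_lt hN1] at h1
    rcases (Nat.pow_eq_one.1 h1.symm) with h | h
    · omega
    · exact h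
  have hdeg : ∀ a, (s • θ a) 1 = ∏ i ∈ Finset.Ico 1 n, ((q : ℂ) ^ i - 1) := by
    intro a
    show s * σ a (jFun ι p 1) = _
    rw [jFun_one ι hM (by omega), map_intCast, hs, phiN, Int.cast_prod, Int.cast_pow, Int.cast_neg, Int.cast_one,
      show n - 1 = (Finset.Ico 1 n).card by simp, ← Finset.prod_const, ← Finset.prod_mul_distrib]
    exact Finset.prod_congr rfl fun i _ => by push_cast; ring
  have hgen : ∀ a, IsGeneralizedCharacter (GL (Fin n) F) (s • θ a) := fun a =>
    Char.IsGen.intCast_smul _ (isGen_aut (σ a) (isGen_jFun ι hM))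
  have hirr : ∀ a, IsIrrCharacter (GL (Fin n) F) (s • θ a) := fun a => by
    refine Char.IsGen.isIrr_of_norm_one (hgen a) ?_ ?_
    · rw [← hself a, classInner, classInner]
      refine congrArg ((Nat.card (GL (Fin n) F) : ℂ)⁻¹ * ·) (Finset.sum_congr rfl fun g _ => ?_)
      rw [Pi.smul_apply, smul_eq_mul, map_mul, mul_mul_mul_comm, hss, one_mul]
    · rw [hdeg a, show (∏ i ∈ Finset.Ico 1 n, ((q : ℂ) ^ i - 1)) = ((∏ i ∈ Finset.Ico 1 n, ((q : ℝ) ^ i - 1) : ℝ) : ℂ) by
        push_cast; rfl, Complex.ofReal_re]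
      refine Finset.prod_pos fun i hi => sub_pos.2 (one_lt_pow₀ (by exact_mod_cast hq2) ?_)
      have := (Finset.mem_Ico.1 hi).1
      omega
  let S := {χ : Cfsg.IrrCharacter (GL (Fin n) F) //
        (χ : GL (Fin n) F → ℂ) 1 = ∏ i ∈ Finset.Ico 1 n, ((Fintype.card F : ℂ) ^ i - 1) ∧
        ∀ m : ℕ, 0 < m → m < n →
          (∑ g : GL (Fin n) F,
            if (∀ i j : Fin n, ¬ (i.val < m ∧ m ≤ j.val) → (g : Matrix (Fin n) (Fin n) F) i j = (1 : Matrix (Fin n) (Fin n) F) i j)
            then (χ : GL (Fin n) F → ℂ) g else 0) = 0}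
  let Ψ : {a // a ∈ T} → S := fun a => ⟨⟨s • θ a, hirr a⟩, hdeg a, fun m hm0 hmn => by
    have h := sum_unipotent ι hM (σ a) (n := n) hm0 hmn
    refine Eq.trans ?_ (mul_eq_zero_of_right s h)
    rw [Finset.mul_sum]
    exact Finset.sum_congr rfl fun g _ => by split_ifs <;> simp [θ]⟩
  haveI : Finite S := inferInstance
  letI : Fintype S := Fintype.ofFinite _
  refine Nat.div_le_of_le_mul ?_
  rw [Nat.totient_eq_card_coprime, ← hT, ← Fintype.card_coe, ← Finset.card_univ]
  refine (Finset.card_le_mul_card_image (f := Ψ) Finset.univ n fun χ _ => ?_).trans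
    (Nat.mul_le_mul_left n ((Finset.card_le_univ _).trans_eq Nat.card_eq_fintype_card.symm))
  rcases (Finset.univ.filter fun a => Ψ a = χ).eq_empty_or_nonempty with h | ⟨b, hb⟩
  · exact (Finset.card_eq_zero.2 h).trans_le (Nat.zero_le _)
  refine le_trans (Finset.card_le_card_of_injOn (t := (Finset.range n).image (fun i => b.1 * q ^ i % N))
    (fun a => a.1) (fun a ha => ?_) (fun a _ a' _ e => Subtype.ext e)) ((Finset.card_image_le).trans (Finset.card_range n).le)
  have he : s • θ a = s • θ b := congrArg (fun x : S => (x.1.1 : GL (Fin n) F → ℂ))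
    (((Finset.mem_filter.1 ha).2).trans (Finset.mem_filter.1 hb).2.symm)
  have he' : θ a = θ b := smul_right_injective _ (left_ne_zero_of_mul_eq_one hss) he
  have h1 := hinner a b
  rw [he', hself b] at h1
  have hne : ((Finset.range n).filter fun i => a.1 % N = b.1 * q ^ i % N).Nonempty := by
    rw [← Finset.card_pos]
    have : ((Finset.range n).filter fun i => a.1 % N = b.1 * q ^ i % N).card = 1 := by exact_mod_cast h1.symm
    omega
  obtain ⟨i, hi⟩ := hne
  rw [Finset.mem_filter] at hi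
  exact Finset.mem_image.2 ⟨i, hi.1, by rw [← hi.2, Nat.mod_eq_of_lt (hT' a.1 a.2).1]⟩

end CfsgLib.Cuspidal
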