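import Cfsg.Agent.Lib.Char.Exceptional.Cuspidal.Values
import Cfsg.Agent.Lib.Char.Exceptional.Cuspidal.Count
import Cfsg.Agent.Lib.Char.ComplexAut

/-!
# Inner products and cuspidality of the conjugates of the alternating sum
-/

set_option autoImplicit false
set_option linter.all false

namespace CfsgLib.Cuspidal

open Cfsg CfsgLib.Blocks CfsgLib.IBr CfsgLib.Star
open Polynomial (aeval)

variable {n : ℕ} {F : Type*} [Field F] [Fintype F] [DecidableEq F] {p : ℕ} [Fact p.Prime] {M : Ideal AlgInt}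
  [M.IsPrime] (ι : F →+* Res M)

/-- The number of elements of the multiplicative group of the extension of degree `n`. -/
abbrev bigN (n : ℕ) (F : Type*) [Fintype F] : ℕ := Fintype.card F ^ n - 1

theorem not_dvd_bigN (hn : 0 < n) [CharP F p] : ¬ p ∣ bigN n F := by
  intro hd
  obtain ⟨e, -, he⟩ := FiniteField.card F p
  have h2 : p ∣ Fintype.card F ^ n := dvd_pow (he ▸ dvd_pow_self p e.ne_zero) hn.ne'
  have h3 := Nat.dvd_sub h2 hd
  rw [bigN, Nat.sub_sub_self (Nat.one_le_pow _ _ Fintype.card_pos)] at h3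
  exact (Fact.out : p.Prime).one_lt.ne' (Nat.dvd_one.1 h3)

theorem pow_frob_eq {c : Res M} (hn : 0 < n) (hc : c ^ bigN n F = 1) : c ^ Fintype.card F ^ n = c := by
  rw [show Fintype.card F ^ n = bigN n F + 1 from (Nat.sub_add_cancel (Nat.one_le_pow _ _ Fintype.card_pos)).symm,
    pow_succ, hc, one_mul]

theorem mem_rootsK {f : Polynomial F} (hf : f ≠ 0) {c : Res M} :
    c ∈ rootsK ι f ↔ (f.map ι).IsRoot c := by
  classical
  rw [rootsK, Multiset.mem_toFinset, Polynomial.mem_roots (Polynomial.map_ne_zero hf)]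

theorem prim_roots (hn : 0 < n) {g : GL (Fin n) F} {f : Polynomial F} (hf : Irreducible f) (hmon : f.Monic)
    (hg : Prim f (rho g)) :
    f.natDegree ∣ n ∧ f.coeff 0 ≠ 0 ∧ ∀ c ∈ rootsK ι f, c ^ bigN n F = 1 := by
  obtain ⟨N, hN⟩ := hg
  obtain ⟨i, hi, -, -⟩ := charpoly_bar ι (g := g) (W := ⊤) (fun _ _ => Submodule.mem_top) hf hmon (N := N)
    (fun w _ => by rw [hN]; rfl)
  rw [finrank_top, Module.finrank_fin_fun] at hi
  have hdn : f.natDegree ∣ n := ⟨i, by rw [mul_comm]; exact hi⟩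
  have h0 : f.coeff 0 ≠ 0 := by
    intro h0
    have hfX : f ∣ Polynomial.X := (Polynomial.irreducible_X.dvd_symm hf (Polynomial.X_dvd_iff.2 h0))
    obtain ⟨R, hR⟩ := pow_dvd_pow_of_dvd hfX N
    have h : rho g ^ N = 0 := by
      rw [← Polynomial.aeval_X (R := F) (rho g), ← map_pow, hR, map_mul, hN, zero_mul]
    have hinj : Function.Injective (rho g ^ N) := by
      rw [← map_pow]; exact rho_injective _
    have := @hinj (Pi.single (⟨0, hn⟩ : Fin n) 1) 0 (by simp [h])
    simpa using congrFun this ⟨0, hn⟩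
  refine ⟨hdn, h0, fun c hc => ?_⟩
  letI := ι.toAlgebra
  rw [mem_rootsK ι hf.ne_zero] at hc
  have hc' : aeval c f = 0 := by rw [Polynomial.aeval_def, ← Polynomial.eval_map]; exact hc
  have hcq := (frob_eq_iff hf hc' n).2 hdn
  have hc0 : c ≠ 0 := by
    rintro rfl
    rw [Polynomial.IsRoot, ← Polynomial.coeff_zero_eq_eval_zero, Polynomial.coeff_map] at hc
    exact h0 ((map_eq_zero ι).1 hc)
  refine mul_left_cancel₀ hc0 ?_
  rw [← pow_succ', bigN, Nat.sub_add_cancel (Nat.one_le_pow _ _ Fintype.card_pos), hcq, mul_one]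

theorem prim_unique (hn : 0 < n) {g : GL (Fin n) F} {f f' : Polynomial F} (hf : Irreducible f) (hmon : f.Monic)
    (hf' : Irreducible f') (hmon' : f'.Monic) (h : Prim f (rho g)) (h' : Prim f' (rho g)) : f = f' := by
  by_contra hne
  obtain ⟨N, hN⟩ := h
  obtain ⟨N', hN'⟩ := h'
  have hcop : IsCoprime f f' := (hf.coprime_iff_not_dvd).2 fun hd => hne
    (Polynomial.eq_of_monic_of_associated hmon hmon' ((hf.associated_of_dvd hf' hd)))
  obtain ⟨a, b, hab⟩ := hcop.pow (m := N) (n := N')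
  have h1 := congrArg (aeval (rho g)) hab
  rw [map_add, map_mul, map_mul, hN, hN', mul_zero, mul_zero, add_zero, map_one] at h1
  have := LinearMap.congr_fun h1 (Pi.single (⟨0, hn⟩ : Fin n) 1)
  simpa using congrFun this ⟨0, hn⟩

variable (hM : IsPModular p M)
include hM

theorem exists_prim (hn : 0 < n) {g : GL (Fin n) F} (hJ : jFun ι p g ≠ 0) :
    ∃ f : Polynomial F, Irreducible f ∧ f.Monic ∧ Prim f (rho g) := by
  haveI : Nontrivial (Module.End F (Fin n → F)) := by
    refine ⟨0, 1, fun h => ?_⟩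
    have := congrFun (LinearMap.congr_fun h (Pi.single (⟨0, hn⟩ : Fin n) 1)) ⟨0, hn⟩
    simp at this
  set T := rho g
  have hint : IsIntegral F T := Algebra.IsIntegral.isIntegral T
  set μ := minpoly F T
  have hμ0 : μ ≠ 0 := minpoly.ne_zero hint
  obtain ⟨f, hmon, hf, hdvd⟩ := Polynomial.exists_monic_irreducible_factor μ (minpoly.not_isUnit F T)
  obtain ⟨r, hr, hfr⟩ := (FiniteMultiplicity.of_not_isUnit (hf.not_isUnit) hμ0).exists_eq_pow_mul_and_not_dvd
  set a := multiplicity f μ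
  have h0 : aeval T (f ^ a * r) = 0 := by rw [← hr]; exact minpoly.aeval F T
  refine ⟨f, hf, hmon, ?_⟩
  by_contra hnp
  refine hJ (jFun_eq_zero ι hM (((hf.coprime_iff_not_dvd).2 hfr).pow_left) h0 (fun hb => ?_) fun hb => ?_)
  · have hr0 : aeval T r = 0 := LinearMap.ext fun v => by
      have := LinearMap.congr_fun h0 v
      rw [map_mul, Module.End.mul_apply] at this
      exact LinearMap.ker_eq_bot.1 hb (by rw [this, LinearMap.zero_apply, map_zero])
    exact hfr (hdvd.trans (minpoly.dvd F T hr0))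
  · refine hnp ⟨a, LinearMap.ext fun v => ?_⟩
    have := LinearMap.congr_fun h0 v
    rw [mul_comm, map_mul, Module.End.mul_apply] at this
    exact LinearMap.ker_eq_bot.1 hb (by rw [this, LinearMap.zero_apply, map_zero])

theorem jFun_one (hn : 0 < n) : jFun ι p (1 : GL (Fin n) F) = (phiN (Fintype.card F) n : ℂ) := by
  classical
  have h0 : aeval (rho (1 : GL (Fin n) F)) (Polynomial.X - Polynomial.C (1 : F)) = 0 := by simp
  rw [jFun_primary ι hM hn (Polynomial.irreducible_X_sub_C (1 : F)) (Polynomial.monic_X_sub_C 1) (N := 1)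
    (by rw [pow_one]; exact h0), h0, LinearMap.ker_zero, finrank_top, Module.finrank_fin_fun,
    Polynomial.natDegree_X_sub_C, pow_one, Nat.div_one]
  have hR : rootsK ι (Polynomial.X - Polynomial.C (1 : F)) = {1} := by
    ext c
    rw [mem_rootsK ι (Polynomial.X_sub_C_ne_zero 1), Finset.mem_singleton]
    simp [Polynomial.IsRoot, sub_eq_zero]
  rw [rootSum, hR, Finset.sum_singleton, tau_one Fact.out hM, mul_one]

variable [CharP F p]

theorem aut_rootSum (hn : 0 < n) {g : GL (Fin n) F} {f : Polynomial F} (hf : Irreducible f) (hmon : f.Monic)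
    (hg : Prim f (rho g)) {a : ℕ} {σ : ℂ ≃+* ℂ} (hσ : σ (rootO M (bigN n F) : ℂ) = (rootO M (bigN n F) : ℂ) ^ a) :
    σ (rootSum ι p f) = ∑ c ∈ rootsK ι f, tau p M c ^ a := by
  rw [rootSum, map_sum]
  refine Finset.sum_congr rfl fun c hc => ?_
  obtain ⟨i, -, rfl⟩ := exists_pow_eq hM (not_dvd_bigN (p := p) hn) ((prim_roots ι hn hf hmon hg).2.2 c hc)
  rw [tau_pow Fact.out hM (not_dvd_bigN (p := p) hn), map_pow, hσ, ← pow_mul, ← pow_mul, mul_comm]

/-- The inner product of two conjugates counts the Frobenius powers carrying one exponent to the other. -/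
theorem inner_conjugates (hn : 0 < n) (a b : ℕ) (σa σb : ℂ ≃+* ℂ)
    (ha : σa (rootO M (bigN n F) : ℂ) = (rootO M (bigN n F) : ℂ) ^ a)
    (hb : σb (rootO M (bigN n F) : ℂ) = (rootO M (bigN n F) : ℂ) ^ b) :
    classInner (fun g : GL (Fin n) F => σa (jFun ι p g)) (fun g : GL (Fin n) F => σb (jFun ι p g)) =
      (((Finset.range n).filter fun i => a % bigN n F = b * Fintype.card F ^ i % bigN n F).card : ℂ) := by
  classical
  letI := ι.toAlgebra
  haveI : IsAlgClosed (Res M) := isAlgClosed_res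
  have hp : p.Prime := Fact.out
  set N := bigN n F with hNdef
  set q := Fintype.card F with hq
  have hNp : ¬ p ∣ N := not_dvd_bigN hn
  have hN0 : N ≠ 0 := fun e => hNp (e ▸ dvd_zero p)
  haveI : NeZero N := ⟨hN0⟩
  set w := resHom M (rootO M N) with hw
  have hwp : IsPrimitiveRoot w N := res_primitive hM hNp
  have hωp : IsPrimitiveRoot (rootO M N : ℂ) N :=
    (isPrimitiveRoot_rootO M hN0).map_of_injective (f := (localRing M).subtype) Subtype.val_injective
  set E := (Finset.range N).image (fun i => w ^ i) with hE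
  have hEmem : ∀ c, c ∈ E ↔ c ^ N = 1 := by
    intro c
    simp only [hE, Finset.mem_image, Finset.mem_range]
    exact ⟨fun ⟨i, _, e⟩ => by rw [← e, ← pow_mul, mul_comm, pow_mul, hwp.pow_eq_one, one_pow],
      fun hc => exists_pow_eq hM hNp hc⟩
  set Fs := E.image (minpoly F) with hFs
  have hint : ∀ c ∈ E, IsIntegral F c := fun c hc =>
    IsIntegral.of_pow (Nat.pos_of_ne_zero hN0) (by rw [(hEmem c).1 hc]; exact isIntegral_one)
  have haev : ∀ {f : Polynomial F}, f ≠ 0 → ∀ c, c ∈ rootsK ι f ↔ aeval c f = 0 := by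
    intro f hf c
    rw [mem_rootsK ι hf, Polynomial.IsRoot, Polynomial.eval_map, Polynomial.aeval_def]
    rfl
  have hminmem : ∀ {f : Polynomial F}, Irreducible f → f.Monic → ∀ c, c ∈ rootsK ι f ↔ (IsIntegral F c ∧ minpoly F c = f) := by
    intro f hf hm c
    rw [haev hf.ne_zero]
    constructor
    · intro h
      exact ⟨⟨f, hm, by rwa [Polynomial.aeval_def] at h⟩, (minpoly.eq_of_irreducible_of_monic hf h hm).symm⟩
    · rintro ⟨-, rfl⟩; exact minpoly.aeval F c
  have hFsp : ∀ f ∈ Fs, Irreducible f ∧ f.Monic ∧ f.natDegree ∣ n ∧ f.coeff 0 ≠ 0 ∧ rootsK ι f = E.filter (fun c => minpoly F c = f) := by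
    intro f hfm
    obtain ⟨c, hc, rfl⟩ := Finset.mem_image.1 hfm
    have hi := minpoly.irreducible (hint c hc)
    have hcq : c ^ q ^ n = c := pow_frob_eq hn ((hEmem c).1 hc)
    have hdn : (minpoly F c).natDegree ∣ n := (frob_eq_iff hi (minpoly.aeval F c) n).1 hcq
    refine ⟨hi, minpoly.monic (hint c hc), hdn, minpoly.coeff_zero_ne_zero (hint c hc) (fun e => ?_), ?_⟩
    · have := (hEmem c).1 hc; rw [e, zero_pow hN0] at this; exact zero_ne_one this
    ext c'
    rw [hminmem hi (minpoly.monic (hint c hc)), Finset.mem_filter]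
    refine ⟨fun ⟨h1, h2⟩ => ⟨(hEmem c').2 ?_, h2⟩, fun ⟨h1, h2⟩ => ⟨hint c' h1, h2⟩⟩
    have hc'q : c' ^ q ^ n = c' := (frob_eq_iff hi (h2 ▸ minpoly.aeval F c') n).2 hdn
    have hc'0 : c' ≠ 0 := fun e => by
      rw [e, minpoly.zero] at h2
      have h3 := minpoly.aeval F c
      rw [← h2, Polynomial.aeval_X] at h3
      have := (hEmem c).1 hc; rw [h3, zero_pow hN0] at this; exact zero_ne_one this
    refine mul_left_cancel₀ hc'0 ?_
    rw [← pow_succ', hNdef, bigN, Nat.sub_add_cancel (Nat.one_le_pow _ _ Fintype.card_pos), hc'q, mul_one]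
  -- the summand at a primary element
  let Ra : ℕ → Polynomial F → ℂ := fun a f => ∑ c ∈ rootsK ι f, tau p M c ^ a
  let lv : GL (Fin n) F → Polynomial F → ℤ := fun g f =>
    phiN ((q : ℤ) ^ f.natDegree) (Module.finrank F (LinearMap.ker (aeval (rho g) f)) / f.natDegree)
  have hterm : ∀ g : GL (Fin n) F, σa (jFun ι p g) * starRingEnd ℂ (σb (jFun ι p g)) =
      ∑ f ∈ Fs, if Prim f (rho g) then ((lv g f * lv g f : ℤ) : ℂ) * (Ra a f * starRingEnd ℂ (Ra b f)) else 0 := by
    intro g
    by_cases hex : ∃ f ∈ Fs, Prim f (rho g)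
    · obtain ⟨f, hf, hg⟩ := hex
      obtain ⟨hi, hm, -, -, -⟩ := hFsp f hf
      obtain ⟨N', hN'⟩ := id hg
      rw [Finset.sum_eq_single f (fun f' hf' hne => if_neg fun h => hne
          (prim_unique hn (hFsp f' hf').1 (hFsp f' hf').2.1 hi hm h hg)) (fun h => absurd hf h), if_pos hg,
        jFun_primary ι hM hn hi hm hN', map_mul, map_mul, map_intCast, map_intCast,
        aut_rootSum ι hM hn hi hm hg ha, aut_rootSum ι hM hn hi hm hg hb, map_mul, map_intCast]
      push_cast [lv]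
      ring
    · rw [Finset.sum_eq_zero fun f hf => if_neg fun h => hex ⟨f, hf, h⟩]
      have hJ : jFun ι p g = 0 := by
        by_contra hJ
        obtain ⟨f, hi, hm, hg⟩ := exists_prim ι hM hn hJ
        obtain ⟨c, hc⟩ := IsAlgClosed.exists_root (f.map ι) (by
          rw [Polynomial.degree_map]; exact hi.degree_pos.ne')
        have hcr : c ∈ rootsK ι f := (mem_rootsK ι hi.ne_zero).2 hc
        exact hex ⟨f, Finset.mem_image.2 ⟨c, (hEmem c).2 ((prim_roots ι hn hi hm hg).2.2 c hcr),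
          ((hminmem hi hm c).1 hcr).2⟩, hg⟩
      rw [hJ, map_zero, zero_mul]
  have hScount : ∀ f ∈ Fs, (∑ g : GL (Fin n) F, if Prim f (rho g) then ((lv g f * lv g f : ℤ) : ℂ) else 0) * (N : ℂ) =
      ((n / f.natDegree : ℕ) : ℂ) * (Nat.card (GL (Fin n) F) : ℂ) := by
    intro f hf
    obtain ⟨hi, hm, hdn, h0, -⟩ := hFsp f hf
    haveI := Fact.mk hi
    have hk : Module.finrank F (Fin n → F) = f.natDegree * (n / f.natDegree) := by
      rw [Module.finrank_fin_fun, Nat.mul_div_cancel' hdn]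
    have h := sum_primary (V := Fin n → F) (f := f) h0 hk
      (Nat.div_pos (Nat.le_of_dvd hn hdn) hi.natDegree_pos)
    rw [← pow_mul, Nat.mul_div_cancel' hdn] at h
    have hcard : Nat.card ((Fin n → F) ≃ₗ[F] (Fin n → F)) = Nat.card (GL (Fin n) F) :=
      (Nat.card_congr ((LinearMap.GeneralLinearGroup.generalLinearEquiv F (Fin n → F)).symm.toEquiv.trans
        (Units.mapEquiv (Matrix.toLinAlgEquiv' (R := F) (n := Fin n)).symm.toMulEquiv).toEquiv))
    have hNcast : (N : ℤ) = (q : ℤ) ^ n - 1 := by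
      rw [hNdef, bigN, Nat.cast_sub (Nat.one_le_pow _ _ Fintype.card_pos)]; push_cast; rfl
    rw [hcard, ← hNcast] at h
    have hre : (∑ g : GL (Fin n) F, if Prim f (rho g) then lv g f * lv g f else 0) =
        ∑ T ∈ Finset.univ.filter (fun T : Module.End F (Fin n → F) => Prim f T),
          phiN ((q : ℤ) ^ f.natDegree) (Module.finrank F (LinearMap.ker (aeval T f)) / f.natDegree) *
          phiN ((q : ℤ) ^ f.natDegree) (Module.finrank F (LinearMap.ker (aeval T f)) / f.natDegree) := by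
      rw [← Finset.sum_filter]
      refine Finset.sum_bij (fun g _ => rho g) (fun g hg => by simpa using hg) (fun g _ g' _ e => ?_) (fun T hT => ?_)
        (fun g _ => rfl)
      · exact Units.ext ((Matrix.toLinAlgEquiv' (R := F) (n := Fin n)).injective e)
      · simp only [Finset.mem_filter, Finset.mem_univ, true_and] at hT
        have hu : IsUnit T := by
          rw [Module.End.isUnit_iff]
          exact Finite.injective_iff_bijective.1 (Prim.injective hT h0)
        refine ⟨Units.mapEquiv (Matrix.toLinAlgEquiv' (R := F) (n := Fin n)).symm.toMulEquiv hu.unit, ?_, ?_⟩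
        · simp only [Finset.mem_filter, Finset.mem_univ, true_and]
          convert hT
          exact (Matrix.toLinAlgEquiv' (R := F) (n := Fin n)).apply_symm_apply T
        · exact (Matrix.toLinAlgEquiv' (R := F) (n := Fin n)).apply_symm_apply T
    rw [← hre] at h
    have h' := congrArg (fun z : ℤ => (z : ℂ)) h
    push_cast at h' ⊢
    exact h'
  -- reduce to roots of unity
  have htau : ∀ f ∈ Fs, ((n / f.natDegree : ℕ) : ℂ) * (Ra a f * starRingEnd ℂ (Ra b f)) =
      ∑ c ∈ rootsK ι f, ∑ i ∈ Finset.range n, tau p M c ^ a * ((tau p M c ^ (b * q ^ i))⁻¹) := by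
    intro f hf
    obtain ⟨hi, hm, hdn, h0, hroots⟩ := hFsp f hf
    have hcN : ∀ c ∈ rootsK ι f, c ^ N = 1 := fun c hc => by
      rw [hroots, Finset.mem_filter] at hc; exact (hEmem c).1 hc.1
    have hconj : starRingEnd ℂ (Ra b f) = ∑ c ∈ rootsK ι f, (tau p M c ^ b)⁻¹ := by
      rw [map_sum]
      refine Finset.sum_congr rfl fun c hc => ?_
      refine (Complex.inv_eq_conj ?_).symm
      rw [norm_pow, Complex.norm_eq_one_of_pow_eq_one (tau_pow_eq_one hp hM hNp (hcN c hc)) hN0, one_pow]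
    rw [hconj, mul_left_comm, show Ra a f = ∑ c ∈ rootsK ι f, tau p M c ^ a from rfl, Finset.sum_mul]
    refine Finset.sum_congr rfl fun c hc => ?_
    have hsum := sum_frob hi ((haev hi.ne_zero c).1 hc) (fun c' => (tau p M c' ^ b)⁻¹) (n / f.natDegree)
    rw [Nat.mul_div_cancel' hdn] at hsum
    rw [← Finset.mul_sum]
    congr 1
    refine Eq.trans ?_ (hsum.symm.trans (Finset.sum_congr rfl fun i _ => ?_))
    · rfl
    · show (tau p M (c ^ q ^ i) ^ b)⁻¹ = _
      rw [tau_mul_pow hp hM hNp (hcN c hc), ← pow_mul, mul_comm (q ^ i) b]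
  rw [classInner, Finset.sum_congr rfl fun g _ => hterm g, Finset.sum_comm]
  have hN0' : (N : ℂ) ≠ 0 := Nat.cast_ne_zero.2 hN0
  have hG0 : (Nat.card (GL (Fin n) F) : ℂ) ≠ 0 := Nat.cast_ne_zero.2 Nat.card_pos.ne'
  rw [Finset.sum_congr rfl (g := fun f => (Nat.card (GL (Fin n) F) : ℂ) / N *
      (((n / f.natDegree : ℕ) : ℂ) * (Ra a f * starRingEnd ℂ (Ra b f)))) (fun f hf => by
    rw [show (Nat.card (GL (Fin n) F) : ℂ) / N * (((n / f.natDegree : ℕ) : ℂ) * (Ra a f * starRingEnd ℂ (Ra b f))) =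
      (((n / f.natDegree : ℕ) : ℂ) * (Nat.card (GL (Fin n) F) : ℂ)) / N * (Ra a f * starRingEnd ℂ (Ra b f)) by ring,
      ← hScount f hf, mul_div_cancel_right₀ _ hN0', Finset.sum_mul Finset.univ]
    exact Finset.sum_congr rfl fun g _ => by split_ifs <;> simp),
    ← Finset.mul_sum, Finset.sum_congr rfl htau]
  have hfib : ∑ f ∈ Fs, ∑ c ∈ rootsK ι f, ∑ i ∈ Finset.range n, tau p M c ^ a * ((tau p M c ^ (b * q ^ i))⁻¹) =
      ∑ i ∈ Finset.range n, ∑ j ∈ Finset.range N, ((rootO M N : ℂ) ^ a * ((rootO M N : ℂ) ^ (b * q ^ i))⁻¹) ^ j := by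
    rw [Finset.sum_congr rfl fun f hf => by rw [(hFsp f hf).2.2.2.2],
      Finset.sum_fiberwise_of_maps_to (fun c hc => Finset.mem_image_of_mem _ hc), hE,
      Finset.sum_image (fun x hx y hy h => hwp.pow_inj (Finset.mem_range.1 hx) (Finset.mem_range.1 hy) h),
      Finset.sum_comm]
    refine Finset.sum_congr rfl fun i _ => Finset.sum_congr rfl fun j _ => ?_
    rw [hw, tau_pow hp hM hNp, mul_pow, _root_.inv_pow, ← pow_mul, ← pow_mul, ← pow_mul, ← pow_mul, mul_comm j a,
      mul_comm j (b * q ^ i)]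
  rw [hfib]
  have hval : ∀ i, ∑ j ∈ Finset.range N, ((rootO M N : ℂ) ^ a * ((rootO M N : ℂ) ^ (b * q ^ i))⁻¹) ^ j =
      if a % N = b * q ^ i % N then (N : ℂ) else 0 := by
    intro i
    have hiff : (rootO M N : ℂ) ^ a * ((rootO M N : ℂ) ^ (b * q ^ i))⁻¹ = 1 ↔ a % N = b * q ^ i % N := by
      have hmod : ∀ e : ℕ, (rootO M N : ℂ) ^ e = (rootO M N : ℂ) ^ (e % N) := fun e => by
        conv_lhs => rw [← Nat.mod_add_div e N, pow_add, pow_mul, hωp.pow_eq_one, one_pow, mul_one]
      rw [mul_inv_eq_one₀ (pow_ne_zero _ (hωp.ne_zero hN0))]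
      refine ⟨fun h => hωp.pow_inj (Nat.mod_lt _ (Nat.pos_of_ne_zero hN0)) (Nat.mod_lt _ (Nat.pos_of_ne_zero hN0))
        (by rw [← hmod, ← hmod, h]), fun h => by rw [hmod, h, ← hmod]⟩
    split_ifs with h
    · rw [hiff.2 h]; simp
    · refine geom_eq_zero ?_ fun e => h (hiff.1 e)
      rw [mul_pow, _root_.inv_pow, ← pow_mul, ← pow_mul, mul_comm a, mul_comm (b * q ^ i), pow_mul, pow_mul, hωp.pow_eq_one,
        one_pow, one_pow, inv_one, one_mul]
  rw [Finset.sum_congr rfl fun i _ => hval i, ← Finset.sum_filter, Finset.sum_const, nsmul_eq_mul]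
  field_simp

omit [CharP F p] in
open scoped Classical in
/-- Cuspidality. -/
theorem sum_unipotent (σ : ℂ ≃+* ℂ) {m : ℕ} (hm0 : 0 < m) (hmn : m < n) :
    (∑ g : GL (Fin n) F,
      if (∀ i j : Fin n, ¬ (i.val < m ∧ m ≤ j.val) → (g : Matrix (Fin n) (Fin n) F) i j = (1 : Matrix (Fin n) (Fin n) F) i j)
      then σ (jFun ι p g) else 0) = 0 := by
  classical
  haveI : Fact (Irreducible (Polynomial.X - Polynomial.C (1 : F))) := ⟨Polynomial.irreducible_X_sub_C 1⟩
  let W : Submodule F (Fin n → F) :=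
    { carrier := {v | ∀ i : Fin n, m ≤ i.val → v i = 0}
      add_mem' := fun {a b} ha hb i hi => by rw [Pi.add_apply, ha i hi, hb i hi, add_zero]
      zero_mem' := fun i _ => rfl
      smul_mem' := fun c a ha i hi => by rw [Pi.smul_apply, ha i hi, smul_zero] }
  haveI : Fintype (upper W) := Fintype.ofFinite _
  have hW0 : W ≠ ⊥ := fun h => by
    have hmem : (Pi.single (⟨0, by omega⟩ : Fin n) (1 : F)) ∈ W := fun i hi =>
      Pi.single_eq_of_ne (fun e => by rw [e] at hi; simp at hi; omega) _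
    rw [h, Submodule.mem_bot] at hmem
    simpa using congrFun hmem ⟨0, by omega⟩
  have hW1 : W ≠ ⊤ := fun h => by
    have hmem : (Pi.single (⟨m, hmn⟩ : Fin n) (1 : F)) ∈ W := h ▸ Submodule.mem_top
    simpa using hmem ⟨m, hmn⟩ le_rfl
  have h0 : aeval (1 : Module.End F (Fin n → F)) (Polynomial.X - Polynomial.C (1 : F)) = 0 := by simp
  have hI : Inv (1 : Module.End F (Fin n → F)) W := fun w hw => hw
  have hsum := sum_translates (T := 1) (f := Polynomial.X - Polynomial.C (1 : F)) hI (fun w _ => by rw [h0]; rfl)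
    (N := 1) (fun v => by rw [pow_one, h0]; exact W.zero_mem) hW0 hW1
  have hmask : ∀ g : GL (Fin n) F, (∀ i j : Fin n, ¬ (i.val < m ∧ m ≤ j.val) →
      (g : Matrix (Fin n) (Fin n) F) i j = (1 : Matrix (Fin n) (Fin n) F) i j) ↔ rho g - 1 ∈ upper W := by
    intro g
    have hcol : ∀ i j : Fin n, (rho g - 1) (Pi.single j 1) i =
        (g : Matrix (Fin n) (Fin n) F) i j - (1 : Matrix (Fin n) (Fin n) F) i j := fun i j => by
      rw [LinearMap.sub_apply, Pi.sub_apply, rho_apply, Matrix.mulVec_single_one, Module.End.one_apply,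
        Matrix.one_apply, Pi.single_apply]
      rfl
    have hexp : ∀ v : Fin n → F, (rho g - 1) v = ∑ j, v j • (rho g - 1) (Pi.single j 1) := fun v => by
      conv_lhs => rw [pi_eq_sum_univ' v, map_sum]
      simp only [map_smul]
    constructor
    · intro h
      refine ⟨fun v i hi => ?_, fun w hw => funext fun i => ?_⟩
      · rw [hexp, Finset.sum_apply, Finset.sum_eq_zero fun j _ => ?_]
        rw [Pi.smul_apply, hcol, h i j (by omega), sub_self, smul_zero]
      · rw [hexp, Finset.sum_apply, Pi.zero_apply, Finset.sum_eq_zero fun j _ => ?_]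
        by_cases hj : m ≤ j.val
        · rw [hw j hj, zero_smul]; rfl
        · rw [Pi.smul_apply, hcol, h i j (by omega), sub_self, smul_zero]
    · intro h i j hij
      refine sub_eq_zero.1 (Eq.trans (hcol i j).symm ?_)
      by_cases hi : m ≤ i.val
      · exact h.1 _ i hi
      · have hjW : Pi.single j (1 : F) ∈ W := fun l hl => Pi.single_eq_of_ne (fun e => by subst e; omega) _
        rw [h.2 _ hjW]; rfl
  rw [← Finset.sum_filter, ← map_sum]
  refine (congrArg σ ?_).trans (map_zero σ)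
  refine Eq.trans ?_ ((congrArg (fun z : ℤ => (z : ℂ)) hsum).trans Int.cast_zero)
  push_cast
  refine Finset.sum_bij (fun g hg => (⟨rho g - 1, (hmask g).1 (Finset.mem_filter.1 hg).2⟩ : upper W))
    (fun _ _ => Finset.mem_univ _) (fun g _ g' _ e => ?_) (fun B _ => ?_) (fun g hg => ?_)
  · exact Units.ext ((Matrix.toLinAlgEquiv' (R := F) (n := Fin n)).injective (sub_left_inj.1 (congrArg Subtype.val e)))
  · have hBB : (B : Module.End F (Fin n → F)) * B = 0 := LinearMap.ext fun v => B.2.2 _ (B.2.1 v)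
    let u : (Module.End F (Fin n → F))ˣ := ⟨1 + B, 1 - B, by rw [add_mul, one_mul, mul_sub, mul_one, hBB]; abel,
      by rw [sub_mul, one_mul, mul_add, mul_one, hBB]; abel⟩
    have hu : rho (Units.mapEquiv (Matrix.toLinAlgEquiv' (R := F) (n := Fin n)).symm.toMulEquiv u) = 1 + B :=
      (Matrix.toLinAlgEquiv' (R := F) (n := Fin n)).apply_symm_apply _
    refine ⟨Units.mapEquiv (Matrix.toLinAlgEquiv' (R := F) (n := Fin n)).symm.toMulEquiv u, ?_, Subtype.ext ?_⟩
    · rw [Finset.mem_filter]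
      refine ⟨Finset.mem_univ _, (hmask _).2 ?_⟩
      rw [hu, add_sub_cancel_left]; exact B.2
    · show rho _ - 1 = _
      rw [hu, add_sub_cancel_left]
  · have hB := (hmask g).1 (Finset.mem_filter.1 hg).2
    have hsq : aeval (rho g) ((Polynomial.X - Polynomial.C (1 : F)) ^ 2) = 0 := by
      have : aeval (rho g) (Polynomial.X - Polynomial.C (1 : F)) = rho g - 1 := by simp
      rw [map_pow, this, sq]
      exact LinearMap.ext fun v => hB.2 _ (hB.1 v)
    rw [jFun_primary ι hM (by omega) (Polynomial.irreducible_X_sub_C (1 : F)) (Polynomial.monic_X_sub_C 1) hsq]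
    have hR : rootSum ι p (Polynomial.X - Polynomial.C (1 : F)) = 1 := by
      have hR : rootsK ι (Polynomial.X - Polynomial.C (1 : F)) = {1} := by
        ext c
        rw [mem_rootsK ι (Polynomial.X_sub_C_ne_zero 1), Finset.mem_singleton]
        simp [Polynomial.IsRoot, sub_eq_zero]
      rw [rootSum, hR, Finset.sum_singleton, tau_one Fact.out hM]
    rw [hR, mul_one, add_sub_cancel]

end CfsgLib.Cuspidal
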