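import Mathlib
import Cfsg.Agent.Lib.Char.Induced
import Cfsg.Agent.Lib.Char.Virtual

/-!
# Sums over fixed points of generalized characters of stabilisers, and Moebius numbers of invariant subspaces
-/

set_option autoImplicit false

namespace CfsgLib.Cuspidal

open Cfsg CfsgLib.Char

variable {G : Type*} [Group G]

open scoped Classical in
/-- A sum over fixed points of generalized characters of the stabilisers is a generalized character. -/
theorem isGen_sum_fixed [Fintype G] {X : Type*} [Fintype X] [MulAction G X] (h : X → G → ℂ)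
    (hconj : ∀ (k : G) (x : X) (g : G), g • x = x → h (k • x) (k * g * k⁻¹) = h x g)
    (hgen : ∀ x, IsGeneralizedCharacter (MulAction.stabilizer G x)
      (fun s : MulAction.stabilizer G x => h x s)) :
    IsGeneralizedCharacter G (fun g => ∑ x : X, if g • x = x then h x g else 0) := by
  haveI : ∀ q : MulAction.orbitRel.Quotient G X, Fintype (MulAction.stabilizer G q.out) :=
    fun q => Fintype.ofFinite _
  haveI := Fintype.ofFinite (MulAction.orbitRel.Quotient G X)
  have heq : (fun g => ∑ x : X, if g • x = x then h x g else 0) =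
      ∑ q : MulAction.orbitRel.Quotient G X,
        Cfsg.indFun (MulAction.stabilizer G q.out) (fun s => h q.out s) := by
    funext g
    rw [Finset.sum_apply, ← Finset.sum_fiberwise Finset.univ (fun x : X => (Quotient.mk'' x : MulAction.orbitRel.Quotient G X))]
    refine Finset.sum_congr rfl fun q _ => ?_
    set x₀ := q.out with hx₀
    set S := MulAction.stabilizer G x₀ with hS
    have hq : ∀ y : G, (Quotient.mk'' (y • x₀) : MulAction.orbitRel.Quotient G X) = q := by
      intro y
      conv_rhs => rw [← Quotient.out_eq' q]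
      exact Quotient.sound' ⟨y, rfl⟩
    have hext : ∀ y : G, extendByZero S (fun s : S => h x₀ s) (y⁻¹ * g * y) =
        if g • (y • x₀) = y • x₀ then h (y • x₀) g else 0 := by
      intro y
      have hiff : y⁻¹ * g * y ∈ S ↔ g • (y • x₀) = y • x₀ := by
        rw [hS, MulAction.mem_stabilizer_iff, mul_smul, mul_smul, inv_smul_eq_iff]
      split_ifs with hy
      · rw [extendByZero_of_mem _ _ (hiff.2 hy)]
        have := hconj y x₀ (y⁻¹ * g * y) (hiff.2 hy)
        rw [show y * (y⁻¹ * g * y) * y⁻¹ = g by group] at this
        exact this.symm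
      · exact extendByZero_of_notMem _ _ fun hm => hy (hiff.1 hm)
    rw [Cfsg.indFun, Finset.sum_congr rfl fun y _ => hext y,
      ← Finset.sum_fiberwise_of_maps_to (t := Finset.univ.filter
        (fun x : X => (Quotient.mk'' x : MulAction.orbitRel.Quotient G X) = q)) (g := fun y : G => y • x₀)
        (fun y _ => by simp [hq y]), Finset.mul_sum]
    refine Finset.sum_congr rfl fun x hx => ?_
    simp only [Finset.mem_filter, Finset.mem_univ, true_and] at hx
    obtain ⟨k, hk⟩ : x ∈ MulAction.orbit G x₀ := by
      rw [← MulAction.orbitRel_apply]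
      exact Quotient.exact' (hx.trans (Quotient.out_eq' q).symm)
    have hcard : (Finset.univ.filter fun y : G => y • x₀ = x).card = Nat.card S := by
      rw [Nat.card_eq_fintype_card, ← Finset.card_univ]
      refine Finset.card_bij (fun y hy => (⟨k⁻¹ * y, ?_⟩ : S)) (fun _ _ => Finset.mem_univ _) (fun a _ b _ hab => ?_)
        fun s _ => ⟨k * s, ?_, ?_⟩
      · simp only [Finset.mem_filter, Finset.mem_univ, true_and] at hy
        rw [hS, MulAction.mem_stabilizer_iff, mul_smul, hy, ← hk, inv_smul_smul]
      · exact mul_left_cancel (congrArg Subtype.val hab)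
      · simp only [Finset.mem_filter, Finset.mem_univ, true_and]
        rw [mul_smul, MulAction.mem_stabilizer_iff.1 s.2]
        exact hk
      · exact Subtype.ext (inv_mul_cancel_left k (s : G))
    rw [Finset.sum_congr rfl (g := fun _ => if g • x = x then h x g else 0) (fun y hy => by
      simp only [Finset.mem_filter, Finset.mem_univ, true_and] at hy
      rw [hy]), Finset.sum_const, hcard, nsmul_eq_mul, ← mul_assoc,
      inv_mul_cancel₀ (Nat.cast_ne_zero.2 Nat.card_pos.ne'), one_mul]
  rw [heq]
  exact IsGen.sum _ _ fun q _ => IsGen.indFun (hgen _)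

section Mu

variable {F V : Type*} [Field F] [AddCommGroup V] [Module F V] [Finite V]

/-- Invariant subspaces. -/
def Inv (T : V →ₗ[F] V) (W : Submodule F V) : Prop := ∀ w ∈ W, T w ∈ W

noncomputable instance : Fintype (Submodule F V) :=
  @Fintype.ofFinite _ (Finite.of_injective (fun W : Submodule F V => (W : Set V)) SetLike.coe_injective)

theorem card_lt_of_lt {X W : Submodule F V} (h : X < W) : Nat.card X < Nat.card W :=
  Set.ncard_lt_ncard (SetLike.coe_ssubset_coe.2 h) (Set.toFinite _)

open scoped Classical in
/-- The Moebius number between zero and an invariant subspace in the lattice of invariant subspaces. -/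
noncomputable def mu (T : V →ₗ[F] V) (W : Submodule F V) : ℤ :=
  if W = ⊥ then 1 else -∑ X : {X : Submodule F V // X < W ∧ Inv T X}, mu T X.1
termination_by Nat.card W
decreasing_by exact card_lt_of_lt X.2.1

theorem mu_bot (T : V →ₗ[F] V) : mu T ⊥ = 1 := by
  rw [mu, if_pos rfl]

open scoped Classical in
theorem mu_eq (T : V →ₗ[F] V) {W : Submodule F V} (hW : W ≠ ⊥) :
    mu T W = -∑ X ∈ Finset.univ.filter (fun X => X < W ∧ Inv T X), mu T X := by
  conv_lhs => rw [mu, if_neg hW]
  congr 1
  exact (Finset.sum_subtype _ (fun X => by simp) _).symm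

open scoped Classical in
theorem sum_mu_le (T : V →ₗ[F] V) {W : Submodule F V} (hW : Inv T W) :
    ∑ X ∈ Finset.univ.filter (fun X => X ≤ W ∧ Inv T X), mu T X = if W = ⊥ then 1 else 0 := by
  have he : Finset.univ.filter (fun X => X ≤ W ∧ Inv T X) =
      insert W (Finset.univ.filter (fun X => X < W ∧ Inv T X)) := by
    ext X
    simp only [Finset.mem_filter, Finset.mem_univ, true_and, Finset.mem_insert]
    constructor
    · rintro ⟨h1, h2⟩
      rcases h1.eq_or_lt with rfl | h
      · exact Or.inl rfl
      · exact Or.inr ⟨h, h2⟩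
    · rintro (rfl | ⟨h1, h2⟩)
      · exact ⟨le_rfl, hW⟩
      · exact ⟨h1.le, h2⟩
  rw [he, Finset.sum_insert (by simp)]
  split_ifs with h
  · subst h
    rw [mu_bot, Finset.sum_eq_zero fun X hX => absurd (Finset.mem_filter.1 hX).2.1 not_lt_bot, add_zero]
  · rw [mu_eq T h, neg_add_cancel]

variable (ρ : G →* Module.End F V)

/-- The action on subspaces. -/
@[reducible] def subAction : MulAction G (Submodule F V) where
  smul g W := W.map (ρ g)
  one_smul W := by
    show W.map (ρ 1) = W
    rw [map_one]
    exact Submodule.map_id W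
  mul_smul g h W := by
    show W.map (ρ (g * h)) = (W.map (ρ h)).map (ρ g)
    rw [map_mul]
    exact Submodule.map_comp _ _ W

variable {ρ}

theorem inv_iff_smul_eq (g : G) (W : Submodule F V) :
    Inv (ρ g) W ↔ (letI := subAction ρ; g • W = W) := by
  letI := subAction ρ
  show Inv (ρ g) W ↔ W.map (ρ g) = W
  haveI := Module.Finite.of_finite (R := F) (M := V)
  constructor
  · intro h
    refine Submodule.eq_of_le_of_finrank_eq (Submodule.map_le_iff_le_comap.2 h) ?_
    refine ((Submodule.equivMapOfInjective _ (fun x y hxy => ?_) W).finrank_eq).symm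
    have := congrArg (ρ g⁻¹) hxy
    simpa [← Module.End.mul_apply, ← map_mul] using this
  · intro h w hw
    rw [← h]
    exact Submodule.mem_map_of_mem hw

theorem inv_smul_iff (k g : G) (W : Submodule F V) :
    Inv (ρ (k * g * k⁻¹)) (W.map (ρ k)) ↔ Inv (ρ g) W := by
  letI := subAction ρ
  rw [inv_iff_smul_eq, inv_iff_smul_eq]
  show (k * g * k⁻¹) • (k • W) = k • W ↔ g • W = W
  rw [smul_smul, inv_mul_cancel_right, mul_smul]
  exact (MulAction.injective k).eq_iff

theorem mu_conj (k g : G) (W : Submodule F V) :
    mu (ρ (k * g * k⁻¹)) (W.map (ρ k)) = mu (ρ g) W := by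
  classical
  letI := subAction ρ
  show mu (ρ (k * g * k⁻¹)) (k • W) = mu (ρ g) W
  induction hn : Nat.card W using Nat.strong_induction_on generalizing W with
  | _ n ih =>
    subst hn
    by_cases hW : W = ⊥
    · subst hW
      rw [show k • (⊥ : Submodule F V) = ⊥ from Submodule.map_bot _, mu_bot, mu_bot]
    have hW' : k • W ≠ ⊥ := fun h => hW (by
      rw [← inv_smul_smul k W, h]; exact Submodule.map_bot _)
    rw [mu_eq _ hW', mu_eq _ hW]
    congr 1
    refine (Finset.sum_equiv (MulAction.toPerm k) (fun X => ?_) fun X hX => ?_).symm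
    · simp only [Finset.mem_filter, Finset.mem_univ, true_and, MulAction.toPerm_apply]
      refine and_congr ?_ (inv_smul_iff k g X).symm
      have hmono : ∀ (a : G) {A B : Submodule F V}, A ≤ B → a • A ≤ a • B := fun a _ _ h => Submodule.map_mono h
      exact ⟨fun h => lt_of_le_of_ne (hmono k h.le) fun e => h.ne (MulAction.injective k e),
        fun h => lt_of_le_of_ne (by simpa using hmono k⁻¹ h.le) fun e => h.ne (by rw [e])⟩
    · exact (ih _ (card_lt_of_lt (Finset.mem_filter.1 hX).2.1) X rfl).symm

open scoped Classical in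
theorem isGen_mu [Fintype G] (W : Submodule F V) :
    IsGeneralizedCharacter (letI := subAction ρ; MulAction.stabilizer G W)
      (fun s => (mu (ρ (s : G)) W : ℂ)) := by
  letI := subAction ρ
  induction hn : Nat.card W using Nat.strong_induction_on generalizing W with
  | _ n ih =>
    subst hn
    by_cases hW : W = ⊥
    · subst hW
      simp only [mu_bot, Int.cast_one]
      exact IsGen.one
    set S := MulAction.stabilizer G W with hS
    have hmono : ∀ (a : G) {A B : Submodule F V}, A ≤ B → a • A ≤ a • B := fun a _ _ h => Submodule.map_mono h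
    letI act : MulAction S {X : Submodule F V // X < W} :=
      { smul := fun s X => ⟨(s : G) • X.1, by
          conv_rhs => rw [← MulAction.mem_stabilizer_iff.1 s.2]
          exact lt_of_le_of_ne (hmono _ X.2.le) fun e => X.2.ne (MulAction.injective _ e)⟩
        one_smul := fun X => Subtype.ext (one_smul G X.1)
        mul_smul := fun s t X => Subtype.ext (mul_smul (s : G) (t : G) X.1) }
    have heq : (fun s : S => (mu (ρ (s : G)) W : ℂ)) = -fun s : S => ∑ X : {X : Submodule F V // X < W},
        if s • X = X then (mu (ρ (s : G)) X.1 : ℂ) else 0 := by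
      funext s
      rw [Pi.neg_apply, mu_eq _ hW, Int.cast_neg, Int.cast_sum]
      congr 1
      refine Eq.trans ?_ (Finset.sum_subtype (Finset.univ.filter (fun X : Submodule F V => X < W)) (by simp)
        (fun X => if (s : G) • X = X then (mu (ρ (s : G)) X : ℂ) else 0) |>.trans
        (Finset.sum_congr rfl fun X _ => if_congr (Subtype.ext_iff (a1 := s • X) (a2 := X)).symm rfl rfl))
      rw [← Finset.sum_filter, Finset.filter_filter]
      refine Finset.sum_congr (Finset.filter_congr fun X _ => ?_) fun _ _ => rfl
      rw [inv_iff_smul_eq]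
    rw [heq]
    refine IsGen.neg ?_
    convert isGen_sum_fixed (fun (X : {X : Submodule F V // X < W}) (s : S) => (mu (ρ (s : G)) X.1 : ℂ))
      (fun k X g _ => ?_) (fun X => ?_) using 4
    · exact congrArg (fun z : ℤ => (z : ℂ)) (mu_conj (k : G) (g : G) X.1)
    · have h := ih _ (card_lt_of_lt X.2) X.1 rfl
      let f : MulAction.stabilizer S X →* MulAction.stabilizer G X.1 :=
        { toFun := fun t => ⟨((t : S) : G), congrArg Subtype.val (MulAction.mem_stabilizer_iff.1 t.2)⟩
          map_one' := rfl
          map_mul' := fun _ _ => rfl }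
      exact IsGen.comp f h

end Mu

end CfsgLib.Cuspidal
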