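import Cfsg.Agent.Lib.Char.Exceptional.Cuspidal.LinAlg
import Cfsg.Agent.Lib.Char.Exceptional.Cuspidal.Orbit

/-!
# Primary endomorphisms and their invariant subspaces
-/

set_option autoImplicit false
set_option linter.all false

namespace CfsgLib.Cuspidal

open Polynomial

section LStruct

variable {F : Type*} [Field F] {f : F[X]} {M : Type*} [AddCommGroup M] [Module F M] {T : Module.End F M}

/-- The action of the residue field of `f` through an endomorphism killed by `f`. -/
noncomputable def lHom (h : aeval T f = 0) : AdjoinRoot f →+* Module.End F M :=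
  Ideal.Quotient.lift (Ideal.span {f}) (aeval T).toRingHom fun P hP => by
    obtain ⟨R, rfl⟩ := Ideal.mem_span_singleton.1 hP
    show aeval T (f * R) = 0
    rw [map_mul, h, zero_mul]

/-- The module structure over the residue field of `f`. -/
@[reducible] noncomputable def lModule (h : aeval T f = 0) : Module (AdjoinRoot f) M :=
  Module.compHom M (lHom h)

theorem lModule_smul (h : aeval T f = 0) (P : F[X]) (m : M) :
    (letI := lModule h; (AdjoinRoot.mk f P) • m) = aeval T P m := rfl

theorem lModule_tower (h : aeval T f = 0) :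
    letI := lModule h; IsScalarTower F (AdjoinRoot f) M := by
  letI := lModule h
  refine ⟨fun a x m => ?_⟩
  induction x using AdjoinRoot.induction_on with
  | _ P =>
    rw [AdjoinRoot.smul_mk, lModule_smul, lModule_smul, map_smul, LinearMap.smul_apply]

theorem lModule_comm {N : Type*} [AddCommGroup N] [Module F N] {S : Module.End F N} (hT : aeval T f = 0)
    (hS : aeval S f = 0) (Z : M →ₗ[F] N) (hc : ∀ m, Z (T m) = S (Z m)) (x : AdjoinRoot f) (m : M) :
    Z (letI := lModule hT; x • m) = (letI := lModule hS; x • Z m) := by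
  induction x using AdjoinRoot.induction_on with
  | _ P =>
    rw [lModule_smul, lModule_smul]
    induction P using Polynomial.induction_on generalizing m with
    | C a => simp
    | add P Q hP hQ => simp [hP, hQ]
    | monomial k a ih =>
      rw [pow_succ, ← mul_assoc, map_mul _ _ (X : F[X]), map_mul _ _ (X : F[X]), aeval_X, aeval_X,
        Module.End.mul_apply, Module.End.mul_apply, ih, hc]

theorem finrank_L (hf : f ≠ 0) : Module.finrank F (AdjoinRoot f) = f.natDegree :=
  (AdjoinRoot.powerBasis hf).finrank

theorem finite_L [Finite F] (hf : f ≠ 0) : Finite (AdjoinRoot f) := by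
  haveI : Module.Finite F (AdjoinRoot f) := (AdjoinRoot.powerBasis hf).finite
  exact Module.finite_of_finite F

theorem card_L [Fintype F] [Fintype (AdjoinRoot f)] (hf : f ≠ 0) :
    (Fintype.card (AdjoinRoot f) : ℤ) = (Fintype.card F : ℤ) ^ f.natDegree := by
  haveI : Module.Finite F (AdjoinRoot f) := (AdjoinRoot.powerBasis hf).finite
  rw [Module.card_eq_pow_finrank (K := F), finrank_L hf]
  push_cast
  rfl

theorem finrank_lModule [Fact (Irreducible f)] (h : aeval T f = 0) :
    letI := lModule h; Module.finrank F M = f.natDegree * Module.finrank (AdjoinRoot f) M := by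
  letI := lModule h
  haveI := lModule_tower h
  rw [← finrank_L (Fact.out : Irreducible f).ne_zero, Module.finrank_mul_finrank]

end LStruct

section Aeval

variable {F V : Type*} [Field F] [AddCommGroup V] [Module F V] (T : Module.End F V)

theorem Inv.aeval {W : Submodule F V} (h : Inv T W) (P : F[X]) {w : V} (hw : w ∈ W) :
    aeval T P w ∈ W := by
  induction P using Polynomial.induction_on generalizing w with
  | C a => simpa using W.smul_mem a hw
  | add P Q hP hQ => rw [map_add, LinearMap.add_apply]; exact W.add_mem (hP hw) (hQ hw)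
  | monomial k a ih =>
    rw [pow_succ, ← mul_assoc, map_mul, aeval_X, Module.End.mul_apply]
    exact ih (h w hw)

theorem aeval_restrict {W : Submodule F V} (h : Inv T W) (P : F[X]) (w : W) :
    (Polynomial.aeval (T.restrict h) P w : V) = Polynomial.aeval T P w := by
  induction P using Polynomial.induction_on generalizing w with
  | C a => simp
  | add P Q hP hQ => simp [hP, hQ]
  | monomial k a ih =>
    rw [pow_succ, ← mul_assoc, map_mul _ _ (X : F[X]), map_mul _ _ (X : F[X]), aeval_X, aeval_X,
      Module.End.mul_apply, Module.End.mul_apply, ih]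
    rfl

theorem inv_ker_aeval (P : F[X]) : Inv T (LinearMap.ker (Polynomial.aeval T P)) := by
  intro v hv
  rw [LinearMap.mem_ker] at hv ⊢
  have : Polynomial.aeval T P * T = T * Polynomial.aeval T P := by
    conv_lhs => arg 2; rw [← aeval_X (R := F) T]
    conv_rhs => arg 1; rw [← aeval_X (R := F) T]
    rw [← map_mul, ← map_mul, mul_comm]
  rw [← Module.End.mul_apply, this, Module.End.mul_apply, hv, map_zero]

end Aeval

section Lattice

variable {F V : Type*} [Field F] [Fintype F] [AddCommGroup V] [Module F V] [Finite V] (T : Module.End F V)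
  {f : F[X]} [Fact (Irreducible f)]

open scoped Classical in
/-- The Moebius sums over invariant subspaces of a subspace killed by `f`. -/
theorem sum_mob_inv (W : Submodule F V) (hW : Inv T W) (hfW : ∀ w ∈ W, aeval T f w = 0) :
    (∑ X ∈ Finset.univ.filter (fun X => X ≤ W ∧ Inv T X),
        mob ((Fintype.card F : ℤ) ^ f.natDegree) (Module.finrank F X / f.natDegree) =
      if W = ⊥ then 1 else 0) ∧
    (∑ X ∈ Finset.univ.filter (fun X => X ≤ W ∧ Inv T X),
        mob ((Fintype.card F : ℤ) ^ f.natDegree) (Module.finrank F X / f.natDegree) *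
          ((Module.finrank F X / f.natDegree : ℕ) : ℤ) =
      if W = ⊥ then 0
      else -phiN ((Fintype.card F : ℤ) ^ f.natDegree) (Module.finrank F W / f.natDegree)) := by
  have hirr : Irreducible f := Fact.out
  have hd : 0 < f.natDegree := hirr.natDegree_pos
  set T' := T.restrict hW
  have h' : aeval T' f = 0 := LinearMap.ext fun w => Subtype.ext (by
    rw [aeval_restrict]; exact hfW w w.2)
  letI := lModule h'
  haveI := lModule_tower h'
  haveI := finite_L (F := F) hirr.ne_zero
  letI : Fintype (AdjoinRoot f) := Fintype.ofFinite _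
  haveI : Module.Finite F V := Module.Finite.of_finite
  letI : Fintype (Submodule (AdjoinRoot f) W) :=
    @Fintype.ofFinite _ (Finite.of_injective (fun X : Submodule (AdjoinRoot f) W => (X : Set W)) SetLike.coe_injective)
  let Φ : Submodule (AdjoinRoot f) W → Submodule F V := fun X => (X.restrictScalars F).map W.subtype
  have hrank : ∀ X : Submodule (AdjoinRoot f) W,
      Module.finrank F (Φ X) / f.natDegree = Module.finrank (AdjoinRoot f) X := by
    intro X
    rw [show Module.finrank F (Φ X) = Module.finrank F (X.restrictScalars F) from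
      (Submodule.equivMapOfInjective _ W.subtype_injective _).finrank_eq.symm,
      show Module.finrank F (X.restrictScalars F) = Module.finrank F X from rfl,
      ← Module.finrank_mul_finrank F (AdjoinRoot f) X, finrank_L hirr.ne_zero, Nat.mul_div_cancel_left _ hd]
  have hsum : ∀ h : ℕ → ℤ, ∑ X ∈ Finset.univ.filter (fun X => X ≤ W ∧ Inv T X),
      h (Module.finrank F X / f.natDegree) =
      ∑ X ∈ Finset.univ.filter (fun X : Submodule (AdjoinRoot f) W => X ≤ ⊤), h (Module.finrank (AdjoinRoot f) X) := by
    intro h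
    refine (Finset.sum_bij (fun X _ => Φ X) (fun X _ => ?_) (fun X _ Y _ e => ?_) (fun U hU => ?_)
      (fun X _ => by rw [hrank])).symm
    · simp only [Finset.mem_filter, Finset.mem_univ, true_and]
      refine ⟨Submodule.map_subtype_le _ _, ?_⟩
      rintro _ ⟨x, hx, rfl⟩
      refine ⟨T' x, ?_, rfl⟩
      have := X.smul_mem (AdjoinRoot.mk f Polynomial.X) hx
      rwa [lModule_smul, aeval_X] at this
    · exact Submodule.restrictScalars_injective F _ _ (Submodule.map_injective_of_injective W.subtype_injective e)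
    · simp only [Finset.mem_filter, Finset.mem_univ, true_and] at hU
      let X : Submodule (AdjoinRoot f) W :=
        { carrier := {w | (w : V) ∈ U}
          add_mem' := fun {a b} ha hb => U.add_mem ha hb
          zero_mem' := U.zero_mem
          smul_mem' := fun c w hw => by
            induction c using AdjoinRoot.induction_on with
            | _ P =>
              show ((aeval T' P w : W) : V) ∈ U
              rw [aeval_restrict]
              exact Inv.aeval T hU.2 P hw }
      refine ⟨X, by simp, ?_⟩
      ext v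
      simp only [Φ, Submodule.mem_map, Submodule.restrictScalars_mem, Submodule.coe_subtype]
      exact ⟨fun ⟨w, hw, e⟩ => e ▸ hw, fun hv => ⟨⟨v, hU.1 hv⟩, hv, rfl⟩⟩
  obtain ⟨h1, h2⟩ := sum_mob (⊤ : Submodule (AdjoinRoot f) W)
  have htop : Module.finrank (AdjoinRoot f) (⊤ : Submodule (AdjoinRoot f) W) = Module.finrank F W / f.natDegree := by
    rw [finrank_top, finrank_lModule h', Nat.mul_div_cancel_left _ hd]
  have hbot : Module.finrank (AdjoinRoot f) (⊤ : Submodule (AdjoinRoot f) W) = 0 ↔ W = ⊥ := by
    rw [finrank_top, ← Submodule.finrank_eq_zero (R := F), finrank_lModule h', Nat.mul_eq_zero,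
      or_iff_right hd.ne']
  rw [card_L hirr.ne_zero] at h1 h2
  constructor
  · rw [hsum (fun j => mob _ j), h1]
    exact if_congr hbot rfl rfl
  · rw [hsum (fun j => mob _ j * (j : ℤ)), h2, htop]
    exact if_congr (by rw [← htop]; exact hbot) rfl rfl

theorem dvd_finrank {W : Submodule F V} (hW : Inv T W) (hfW : ∀ w ∈ W, aeval T f w = 0) :
    f.natDegree ∣ Module.finrank F W := by
  have h' : aeval (T.restrict hW) f = 0 := LinearMap.ext fun w => Subtype.ext (by
    rw [aeval_restrict]; exact hfW w w.2)
  rw [finrank_lModule h']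
  exact dvd_mul_right _ _

open scoped Classical in
/-- The Moebius number of a subspace killed by `f`. -/
theorem mu_eq_mob {W : Submodule F V} (hW : Inv T W) (hfW : ∀ w ∈ W, aeval T f w = 0) :
    mu T W = mob ((Fintype.card F : ℤ) ^ f.natDegree) (Module.finrank F W / f.natDegree) := by
  induction hn : Nat.card W using Nat.strong_induction_on generalizing W with
  | _ n ih =>
    subst hn
    by_cases hW0 : W = ⊥
    · subst hW0; simp [mu_bot, mob]
    have h := (sum_mob_inv T W hW hfW).1
    rw [if_neg hW0] at h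
    have h' := sum_mu_le T hW
    rw [if_neg hW0] at h'
    have hmem : W ∈ Finset.univ.filter (fun X => X ≤ W ∧ Inv T X) := by simp [hW]
    rw [← Finset.add_sum_erase _ _ hmem] at h h'
    have hrest : ∀ X ∈ (Finset.univ.filter (fun X => X ≤ W ∧ Inv T X)).erase W,
        mu T X = mob ((Fintype.card F : ℤ) ^ f.natDegree) (Module.finrank F X / f.natDegree) := by
      intro X hX
      simp only [Finset.mem_erase, Finset.mem_filter, Finset.mem_univ, true_and] at hX
      exact ih _ (card_lt_of_lt (lt_of_le_of_ne hX.2.1 hX.1)) hX.2.2 (fun w hw => hfW w (hX.2.1 hw)) rfl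
    rw [Finset.sum_congr rfl hrest] at h'
    linarith

omit [Fact (Irreducible f)] in
open scoped Classical in
/-- Subspaces outside the kernel of `f` have Moebius number zero. -/
theorem mu_eq_zero_of_not_le {N : ℕ} (hN : aeval T (f ^ N) = 0) {W : Submodule F V} (hW : Inv T W)
    (hle : ¬ W ≤ LinearMap.ker (aeval T f)) : mu T W = 0 := by
  induction hn : Nat.card W using Nat.strong_induction_on generalizing W with
  | _ n ih =>
    subst hn
    set K := LinearMap.ker (aeval T f) with hK
    have hW0 : W ≠ ⊥ := fun h => hle (h ▸ bot_le)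
    have hI : Inv T (W ⊓ K) := fun w hw => ⟨hW w hw.1, inv_ker_aeval T f w hw.2⟩
    have hne : W ⊓ K ≠ ⊥ := by
      intro h0
      obtain ⟨w, hw, hw0⟩ := Submodule.exists_mem_ne_zero_of_ne_bot hW0
      have key : ∀ i : ℕ, aeval T (f ^ i) w ≠ 0 := by
        intro i
        induction i with
        | zero => simpa using hw0
        | succ i hi =>
          intro h1
          refine hi ((Submodule.eq_bot_iff _).1 h0 _ ⟨Inv.aeval T hW _ hw, ?_⟩)
          rw [hK, SetLike.mem_coe, LinearMap.mem_ker, ← Module.End.mul_apply, ← map_mul, ← pow_succ']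
          exact h1
      exact key N (by rw [hN]; rfl)
    rw [mu_eq T hW0, neg_eq_zero]
    have h := sum_mu_le T hI
    rw [if_neg hne] at h
    rw [← h]
    refine (Finset.sum_subset (fun X hX => ?_) fun X hX hX' => ?_).symm
    · simp only [Finset.mem_filter, Finset.mem_univ, true_and] at hX ⊢
      refine ⟨lt_of_le_of_lt hX.1 (lt_of_le_of_ne inf_le_left fun e => hle ?_), hX.2⟩
      exact e ▸ inf_le_right
    · simp only [Finset.mem_filter, Finset.mem_univ, true_and] at hX hX'
      exact ih _ (card_lt_of_lt hX.1) hX.2 (fun hh => hX' ⟨le_inf hX.1.le hh, hX.2⟩) rfl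

omit [Fintype F] [Fact (Irreducible f)] in
open scoped Classical in
/-- The Moebius sum over the complements in a direct decomposition. -/
theorem sum_mu_sup {V₁ V₂ : Submodule F V} (h₂ : Inv T V₂) (hdis : V₁ ⊓ V₂ = ⊥) (hV₂ : V₂ ≠ ⊥)
    (hsplit : ∀ W, Inv T W → W ≤ (W ⊓ V₁) ⊔ (W ⊓ V₂)) (h₁ : Inv T V₁) {W₁ : Submodule F V}
    (hW₁ : Inv T W₁) (hle : W₁ ≤ V₁) :
    ∑ X ∈ Finset.univ.filter (fun X => X ≤ V₂ ∧ Inv T X), mu T (W₁ ⊔ X) = 0 := by
  induction hn : Nat.card W₁ using Nat.strong_induction_on generalizing W₁ with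
  | _ n ih =>
    subst hn
    have hsupI : ∀ {A B : Submodule F V}, Inv T A → Inv T B → Inv T (A ⊔ B) := by
      intro A B hA hB w hw
      obtain ⟨a, ha, b, hb, rfl⟩ := Submodule.mem_sup.1 hw
      rw [map_add]
      exact Submodule.add_mem_sup (hA a ha) (hB b hb)
    have hproj : ∀ {A B : Submodule F V}, A ≤ V₁ → B ≤ V₂ → (A ⊔ B) ⊓ V₁ = A := by
      intro A B hA hB
      rw [sup_inf_assoc_of_le _ hA, show B ⊓ V₁ = ⊥ from
        eq_bot_iff.2 (le_trans (le_inf inf_le_right (inf_le_left.trans hB)) hdis.le), sup_bot_eq]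
    have hproj₂ : ∀ {A B : Submodule F V}, A ≤ V₁ → B ≤ V₂ → (A ⊔ B) ⊓ V₂ = B := by
      intro A B hA hB
      rw [sup_comm, sup_inf_assoc_of_le _ hB, show A ⊓ V₂ = ⊥ from
        eq_bot_iff.2 (le_trans (inf_le_inf_right _ hA) hdis.le), sup_bot_eq]
    have h := sum_mu_le T (hsupI hW₁ h₂)
    rw [if_neg (fun e => hV₂ (eq_bot_iff.2 (le_sup_right.trans e.le)))] at h
    rw [← Finset.sum_fiberwise_of_maps_to (t := Finset.univ.filter (fun Y => Y ≤ W₁ ∧ Inv T Y))
      (g := fun X => X ⊓ V₁) (fun X hX => by
        simp only [Finset.mem_filter, Finset.mem_univ, true_and] at hX ⊢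
        exact ⟨(inf_le_inf_right _ hX.1).trans (hproj hle le_rfl).le,
          fun w hw => ⟨hX.2 w hw.1, h₁ w hw.2⟩⟩)] at h
    have hfib : ∀ Y, Y ≤ W₁ → Inv T Y →
        ∑ X ∈ (Finset.univ.filter (fun X => X ≤ W₁ ⊔ V₂ ∧ Inv T X)).filter (fun X => X ⊓ V₁ = Y), mu T X =
        ∑ X ∈ Finset.univ.filter (fun X => X ≤ V₂ ∧ Inv T X), mu T (Y ⊔ X) := by
      intro Y hY hYI
      refine (Finset.sum_bij (fun X _ => Y ⊔ X) (fun X hX => ?_) (fun X hX X' hX' e => ?_)
        (fun U hU => ?_) (fun X _ => rfl)).symm
      · simp only [Finset.mem_filter, Finset.mem_univ, true_and] at hX ⊢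
        exact ⟨⟨sup_le_sup hY hX.1, hsupI hYI hX.2⟩, hproj (hY.trans hle) hX.1⟩
      · simp only [Finset.mem_filter, Finset.mem_univ, true_and] at hX hX'
        rw [← hproj₂ (hY.trans hle) hX.1, ← hproj₂ (hY.trans hle) hX'.1, e]
      · simp only [Finset.mem_filter, Finset.mem_univ, true_and] at hU ⊢
        refine ⟨U ⊓ V₂, ⟨inf_le_right, fun w hw => ⟨hU.1.2 w hw.1, h₂ w hw.2⟩⟩, ?_⟩
        rw [← hU.2]
        exact le_antisymm (sup_le inf_le_left inf_le_left) (hsplit U hU.1.2)
    have hWmem : W₁ ∈ Finset.univ.filter (fun Y => Y ≤ W₁ ∧ Inv T Y) := by simp [hW₁]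
    have hz : ∀ Y ∈ (Finset.univ.filter (fun Y => Y ≤ W₁ ∧ Inv T Y)).erase W₁,
        ∑ X ∈ (Finset.univ.filter (fun X => X ≤ W₁ ⊔ V₂ ∧ Inv T X)).filter (fun X => X ⊓ V₁ = Y), mu T X = 0 := by
      intro Y hY
      simp only [Finset.mem_erase, Finset.mem_filter, Finset.mem_univ, true_and] at hY
      rw [hfib Y hY.2.1 hY.2.2]
      exact ih _ (card_lt_of_lt (lt_of_le_of_ne hY.2.1 hY.1)) hY.2.2 (hY.2.1.trans hle) rfl
    rw [← Finset.add_sum_erase _ _ hWmem, hfib W₁ le_rfl hW₁, Finset.sum_eq_zero hz, add_zero] at h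
    exact h

end Lattice

section Translates

variable {F V : Type*} [Field F] [AddCommGroup V] [Module F V]

/-- The maps from the quotient by `W` to `W`. -/
def upper (W : Submodule F V) : Submodule F (Module.End F V) where
  carrier := {B | (∀ v, B v ∈ W) ∧ ∀ w ∈ W, B w = 0}
  add_mem' := fun {a b} ha hb => ⟨fun v => W.add_mem (ha.1 v) (hb.1 v),
    fun w hw => by rw [LinearMap.add_apply, ha.2 w hw, hb.2 w hw, add_zero]⟩
  zero_mem' := ⟨fun _ => W.zero_mem, fun _ _ => rfl⟩
  smul_mem' := fun c a ha => ⟨fun v => W.smul_mem c (ha.1 v),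
    fun w hw => by rw [LinearMap.smul_apply, ha.2 w hw, smul_zero]⟩

variable {T : Module.End F V} {W : Submodule F V}

/-- A polynomial of a translate is an affine function of the translation. -/
theorem exists_aeval_add (hW : Inv T W) (P : F[X]) :
    ∃ Λ : upper W →ₗ[F] upper W, (∀ B : upper W, aeval (T + (B : Module.End F V)) P = aeval T P + (Λ B : Module.End F V)) ∧
      ∀ (B : upper W) (K : Submodule F V), Inv T K →
        (∀ v ∈ K, (B : Module.End F V) (T v) = T ((B : Module.End F V) v)) →
        ∀ v ∈ K, (Λ B : Module.End F V) v = aeval T (derivative P) ((B : Module.End F V) v) := by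
  induction P using Polynomial.induction_on with
  | C a => exact ⟨0, fun B => by simp, fun B K _ _ v _ => by simp⟩
  | add P Q hP hQ =>
    obtain ⟨Λ, h1, h2⟩ := hP
    obtain ⟨Μ, h1', h2'⟩ := hQ
    exact ⟨Λ + Μ, fun B => by simp only [map_add, h1, h1', LinearMap.add_apply, Submodule.coe_add]; abel,
      fun B K hK hc v hv => by simp [h2 B K hK hc v hv, h2' B K hK hc v hv]⟩
  | monomial k a ih =>
    obtain ⟨Λ, h1, h2⟩ := ih
    set P := C a * X ^ k
    let Μ : upper W →ₗ[F] upper W :=
      { toFun := fun B => ⟨(Λ B : Module.End F V) * T + aeval T P * (B : Module.End F V),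
          fun v => W.add_mem ((Λ B).2.1 _) (Inv.aeval T hW P (B.2.1 v)),
          fun w hw => by
            show (Λ B : Module.End F V) (T w) + aeval T P ((B : Module.End F V) w) = 0
            rw [(Λ B).2.2 _ (hW w hw), B.2.2 w hw, map_zero, add_zero]⟩
        map_add' := fun B C => Subtype.ext (by
          simp only [map_add, Submodule.coe_add, add_mul, mul_add]; abel)
        map_smul' := fun c B => Subtype.ext (by
          simp only [map_smul, Submodule.coe_smul, smul_mul_assoc, mul_smul_comm, RingHom.id_apply, smul_add]) }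
    refine ⟨Μ, fun B => ?_, fun B K hK hc v hv => ?_⟩
    · rw [pow_succ, ← mul_assoc, map_mul, map_mul _ P, aeval_X, aeval_X, h1, add_mul, mul_add, mul_add]
      have hz : (Λ B : Module.End F V) * (B : Module.End F V) = 0 :=
        LinearMap.ext fun v => (Λ B).2.2 _ (B.2.1 v)
      rw [hz, add_zero]
      show aeval T P * T + aeval T P * (B : Module.End F V) + (Λ B : Module.End F V) * T =
        aeval T P * T + ((Λ B : Module.End F V) * T + aeval T P * (B : Module.End F V))
      abel
    · show (Λ B : Module.End F V) (T v) + aeval T P ((B : Module.End F V) v) = _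
      rw [h2 B K hK hc _ (hK v hv), pow_succ, ← mul_assoc,
        show derivative (C a * X ^ k * X) = derivative P * X + P by simp [P, derivative_mul], map_add,
        map_mul (aeval T) (derivative P) X, aeval_X, LinearMap.add_apply, Module.End.mul_apply, hc v hv]

variable [Fintype F] [Finite V] {f : F[X]} [Fact (Irreducible f)]

/-- The cancellation over the translates by maps from the quotient. -/
theorem sum_translates (hW : Inv T W) (hfW : ∀ w ∈ W, aeval T f w = 0) {N : ℕ}
    (hN : ∀ v, aeval T (f ^ N) v ∈ W) (hW0 : W ≠ ⊥) (hW1 : W ≠ ⊤) [Fintype (upper W)] :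
    ∑ B : upper W, phiN ((Fintype.card F : ℤ) ^ f.natDegree)
      (Module.finrank F (LinearMap.ker (aeval (T + (B : Module.End F V)) f)) / f.natDegree) = 0 := by
  classical
  haveI : Module.Finite F V := Module.Finite.of_finite
  have hirr : Irreducible f := Fact.out
  have hd : 0 < f.natDegree := hirr.natDegree_pos
  haveI := finite_L (F := F) hirr.ne_zero
  letI : Fintype (AdjoinRoot f) := Fintype.ofFinite _
  obtain ⟨Λ, hΛ, hΛd⟩ := exists_aeval_add hW f
  set K' := W.comap (aeval T f) with hK'
  have hWK : W ≤ K' := fun w hw => by rw [hK', Submodule.mem_comap, hfW w hw]; exact W.zero_mem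
  have hTcomm : ∀ v, aeval T f (T v) = T (aeval T f v) := fun v => by
    have : aeval T f * T = T * aeval T f := by
      conv_lhs => arg 2; rw [← aeval_X (R := F) T]
      conv_rhs => arg 1; rw [← aeval_X (R := F) T]
      rw [← map_mul, ← map_mul, mul_comm]
    exact LinearMap.congr_fun this v
  have hK'I : Inv T K' := fun v hv => by
    rw [hK', Submodule.mem_comap, hTcomm]
    exact hW _ hv
  -- the two modules over the residue field
  set S : Submodule F K' := W.comap K'.subtype with hS
  let TY : Module.End F (K' ⧸ S) := S.mapQ S (T.restrict hK'I) fun x hx => hW _ hx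
  let TW : Module.End F W := T.restrict hW
  have hfTW : aeval TW f = 0 := LinearMap.ext fun w => Subtype.ext (by
    rw [aeval_restrict]; exact hfW w w.2)
  have hTY : ∀ (P : F[X]) (v : K'), aeval TY P (S.mkQ v) = S.mkQ (aeval (T.restrict hK'I) P v) := by
    intro P
    induction P using Polynomial.induction_on with
    | C a => intro v; simp
    | add P Q hP hQ =>
      intro v
      rw [map_add, map_add, LinearMap.add_apply, LinearMap.add_apply, hP, hQ, map_add]
    | monomial k a ih =>
      intro v
      rw [pow_succ, ← mul_assoc, map_mul _ _ (X : F[X]), map_mul _ _ (X : F[X]), aeval_X, aeval_X,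
        Module.End.mul_apply, Module.End.mul_apply, ← ih]
      rfl
  have hfTY : aeval TY f = 0 := LinearMap.ext fun y => by
    obtain ⟨v, rfl⟩ := S.mkQ_surjective y
    rw [hTY, LinearMap.zero_apply, Submodule.mkQ_apply, Submodule.Quotient.mk_eq_zero, hS, Submodule.mem_comap,
      Submodule.coe_subtype, aeval_restrict]
    exact v.2
  letI := lModule hfTY
  letI := lModule hfTW
  haveI := lModule_tower hfTY
  haveI := lModule_tower hfTW
  haveI : Finite (K' ⧸ S) := Finite.of_surjective _ S.mkQ_surjective
  haveI : FiniteDimensional (AdjoinRoot f) (K' ⧸ S) := Module.Finite.of_finite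
  letI : Fintype W := Fintype.ofFinite _
  haveI : Finite ((K' ⧸ S) →ₗ[AdjoinRoot f] W) := Finite.of_injective _ DFunLike.coe_injective
  letI : Fintype ((K' ⧸ S) →ₗ[AdjoinRoot f] W) := Fintype.ofFinite _
  -- the connecting maps
  have hmem : ∀ (B : upper W) (v : K'), aeval (T + (B : Module.End F V)) f v ∈ W := fun B v => by
    rw [hΛ, LinearMap.add_apply]
    exact W.add_mem v.2 ((Λ B).2.1 _)
  have hkill : ∀ (B : upper W), ∀ w ∈ W, aeval (T + (B : Module.End F V)) f w = 0 := fun B w hw => by
    rw [hΛ, LinearMap.add_apply, hfW w hw, (Λ B).2.2 w hw, add_zero]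
  let ψ : upper W → (K' →ₗ[F] W) := fun B =>
    ((aeval (T + (B : Module.End F V)) f).domRestrict K').codRestrict W (hmem B)
  have hψS : ∀ B, S ≤ LinearMap.ker (ψ B) := fun B x hx => Subtype.ext (hkill B _ hx)
  let Zf : upper W → ((K' ⧸ S) →ₗ[F] W) := fun B => S.liftQ (ψ B) (hψS B)
  have hZc : ∀ B y, Zf B (TY y) = TW (Zf B y) := by
    intro B y
    obtain ⟨v, rfl⟩ := S.mkQ_surjective y
    refine Subtype.ext ?_
    show aeval (T + (B : Module.End F V)) f (T v) = T (aeval (T + (B : Module.End F V)) f v)
    have hcom : aeval (T + (B : Module.End F V)) f * (T + (B : Module.End F V)) =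
        (T + (B : Module.End F V)) * aeval (T + (B : Module.End F V)) f := by
      conv_lhs => arg 2; rw [← aeval_X (R := F) (T + (B : Module.End F V))]
      conv_rhs => arg 1; rw [← aeval_X (R := F) (T + (B : Module.End F V))]
      rw [← map_mul, ← map_mul, mul_comm]
    have h := LinearMap.congr_fun hcom v
    simp only [Module.End.mul_apply, LinearMap.add_apply, map_add] at h
    rwa [hkill B _ (B.2.1 _), add_zero, B.2.2 _ (hmem B v), add_zero] at h
  let Zm : upper W → ((K' ⧸ S) →ₗ[AdjoinRoot f] W) := fun B =>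
    { toFun := Zf B
      map_add' := (Zf B).map_add
      map_smul' := fun c y => lModule_comm hfTY hfTW (Zf B) (hZc B) c y }
  have hval : ∀ (B : upper W) (v : K'), (Zm B (S.mkQ v) : V) = aeval (T + (B : Module.End F V)) f v := fun B v => rfl
  have haff : ∀ (B C : upper W), Zm (B + C) - Zm C = Zm B - Zm 0 := by
    intro B C
    refine LinearMap.ext fun y => ?_
    obtain ⟨v, rfl⟩ := S.mkQ_surjective y
    refine Subtype.ext ?_
    rw [LinearMap.sub_apply, LinearMap.sub_apply, AddSubgroupClass.coe_sub, AddSubgroupClass.coe_sub, hval, hval,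
      hval, hval, hΛ, hΛ, hΛ, hΛ, map_add, map_zero]
    simp only [LinearMap.add_apply, Submodule.coe_add, ZeroMemClass.coe_zero, LinearMap.zero_apply]
    abel
  -- the connecting map is surjective
  have hder : AdjoinRoot.mk f (derivative f) ≠ 0 := by
    rw [Ne, AdjoinRoot.mk_eq_zero]
    intro h
    have hsep : f.Separable := PerfectField.separable_of_irreducible hirr
    exact hirr.not_isUnit (isUnit_of_dvd_one (by
      obtain ⟨a, b, hab⟩ := hsep
      rw [← hab]
      exact dvd_add (dvd_mul_of_dvd_right dvd_rfl a) (dvd_mul_of_dvd_right h b)))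
  have hsurj : ∀ Z : (K' ⧸ S) →ₗ[AdjoinRoot f] W, ∃ B, Zm B - Zm 0 = Z := by
    intro Z
    let Z' : K' →ₗ[F] W := ((((AdjoinRoot.mk f (derivative f))⁻¹ : AdjoinRoot f) • Z).restrictScalars F).comp S.mkQ
    obtain ⟨e, he⟩ := LinearMap.exists_extend Z'
    have he' : ∀ v : K', e (v : V) = Z' v := fun v => LinearMap.congr_fun he v
    have hB : W.subtype.comp e ∈ upper W := ⟨fun v => (e v).2, fun w hw => by
      show (e w : V) = 0
      rw [show e w = Z' ⟨w, hWK hw⟩ from he' ⟨w, hWK hw⟩]
      have : S.mkQ ⟨w, hWK hw⟩ = 0 := (Submodule.Quotient.mk_eq_zero _).2 hw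
      simp [Z', this]⟩
    refine ⟨⟨_, hB⟩, ?_⟩
    have hcB : ∀ v ∈ K', W.subtype.comp e (T v) = T (W.subtype.comp e v) := by
      intro v hv
      show (e (T v) : V) = T (e v : V)
      rw [show e (T v) = Z' ⟨T v, hK'I v hv⟩ from he' ⟨T v, hK'I v hv⟩, show e v = Z' ⟨v, hv⟩ from he' ⟨v, hv⟩]
      have hy : S.mkQ ⟨T v, hK'I v hv⟩ = (AdjoinRoot.mk f X : AdjoinRoot f) • S.mkQ ⟨v, hv⟩ := by
        rw [lModule_smul, aeval_X]; rfl
      simp only [Z', LinearMap.comp_apply, LinearMap.restrictScalars_apply]
      rw [hy, map_smul, lModule_smul, aeval_X]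
      rfl
    refine LinearMap.ext fun y => ?_
    obtain ⟨v, rfl⟩ := S.mkQ_surjective y
    refine Subtype.ext ?_
    rw [LinearMap.sub_apply, AddSubgroupClass.coe_sub, hval, hval, hΛ, hΛ, map_zero]
    simp only [LinearMap.add_apply, ZeroMemClass.coe_zero, LinearMap.zero_apply, add_zero, add_sub_cancel_left]
    rw [hΛd _ K' hK'I hcB v v.2]
    show aeval T (derivative f) (e v : V) = _
    rw [he', ← aeval_restrict T hW]
    refine congrArg Subtype.val ?_
    show (AdjoinRoot.mk f (derivative f)) • Z' v = Z (S.mkQ v)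
    simp only [Z', LinearMap.comp_apply, LinearMap.restrictScalars_apply, LinearMap.smul_apply]
    exact smul_inv_smul₀ hder _
  -- dimensions
  have hdim : ∀ B : upper W, Module.finrank F (LinearMap.ker (aeval (T + (B : Module.End F V)) f)) / f.natDegree =
      Module.finrank (AdjoinRoot f) W + Module.finrank (AdjoinRoot f) (LinearMap.ker (Zm B)) := by
    intro B
    have hle : LinearMap.ker (aeval (T + (B : Module.End F V)) f) ≤ K' := fun v hv => by
      rw [LinearMap.mem_ker, hΛ, LinearMap.add_apply, ← eq_neg_iff_add_eq_zero] at hv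
      rw [hK', Submodule.mem_comap, hv]
      exact W.neg_mem ((Λ B).2.1 v)
    have h1 : Module.finrank F (LinearMap.ker (aeval (T + (B : Module.End F V)) f)) = Module.finrank F (LinearMap.ker (ψ B)) := by
      rw [← (Submodule.comapSubtypeEquivOfLe hle).finrank_eq]
      refine (LinearEquiv.ofEq _ _ ?_).finrank_eq
      ext v
      simp only [Submodule.mem_comap, Submodule.coe_subtype, LinearMap.mem_ker]
      exact (Subtype.ext_iff (a1 := ψ B v) (a2 := 0)).symm
    have h2 := LinearMap.finrank_range_add_finrank_ker (ψ B)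
    have h3 := LinearMap.finrank_range_add_finrank_ker (Zf B)
    have h4 : LinearMap.range (Zf B) = LinearMap.range (ψ B) := Submodule.range_liftQ _ _ _
    rw [h4] at h3
    have h5 := S.finrank_quotient_add_finrank
    have h6 : Module.finrank F S = Module.finrank F W := (Submodule.comapSubtypeEquivOfLe hWK).finrank_eq
    have h7 : Module.finrank F (LinearMap.ker (Zf B)) =
        f.natDegree * Module.finrank (AdjoinRoot f) (LinearMap.ker (Zm B)) := by
      rw [← finrank_L hirr.ne_zero, Module.finrank_mul_finrank]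
      rfl
    have h8 := finrank_lModule hfTW
    rw [show Module.finrank F (LinearMap.ker (aeval (T + (B : Module.End F V)) f)) =
      f.natDegree * (Module.finrank (AdjoinRoot f) W + Module.finrank (AdjoinRoot f) (LinearMap.ker (Zm B))) by
        rw [mul_add, ← h8, ← h7]; omega, Nat.mul_div_cancel_left _ hd]
  have hYpos : 1 ≤ Module.finrank (AdjoinRoot f) (K' ⧸ S) := by
    rw [Nat.one_le_iff_ne_zero]
    intro h0
    have hY0 : Module.finrank F (K' ⧸ S) = 0 := by rw [finrank_lModule hfTY, h0, mul_zero]
    have hKW : K' ≤ W := by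
      have h5 := S.finrank_quotient_add_finrank
      have h6 : Module.finrank F S = Module.finrank F W := (Submodule.comapSubtypeEquivOfLe hWK).finrank_eq
      exact (Submodule.eq_of_le_of_finrank_eq hWK (by omega)).ge
    refine hW1 (eq_top_iff.2 fun v _ => ?_)
    have key : ∀ i, aeval T (f ^ i) v ∈ W → v ∈ W := by
      intro i
      induction i with
      | zero => simp
      | succ i ih =>
        intro h
        refine ih (hKW ?_)
        rw [hK', Submodule.mem_comap, ← Module.End.mul_apply, ← map_mul, ← pow_succ']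
        exact h
    exact key N (hN v)
  have hWpos : 1 ≤ Module.finrank (AdjoinRoot f) W := by
    rw [Nat.one_le_iff_ne_zero]
    intro h0
    exact hW0 (Submodule.finrank_eq_zero.1 (by rw [finrank_lModule hfTW, h0, mul_zero]))
  have hzero := sum_linearMap_eq_zero (AdjoinRoot f) (K' ⧸ S) W hWpos hYpos
  rw [card_L hirr.ne_zero] at hzero
  simp only [hdim]
  rw [← Finset.sum_fiberwise Finset.univ Zm]
  have hfib : ∀ Z, (Finset.univ.filter fun B => Zm B = Z).card = (Finset.univ.filter fun B => Zm B = Zm 0).card := by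
    intro Z
    obtain ⟨C, hC⟩ := hsurj (Z - Zm 0)
    have hC' : Zm C = Z := by
      rw [sub_left_inj] at hC
      exact hC
    refine Finset.card_bij (fun B _ => B - C) (fun B hB => ?_) (fun B _ B' _ h => sub_left_inj.1 h) fun B hB => ?_
    · simp only [Finset.mem_filter, Finset.mem_univ, true_and] at hB ⊢
      have := haff (B - C) C
      rw [sub_add_cancel, hB, hC', sub_self] at this
      exact (sub_eq_zero.1 this.symm)
    · simp only [Finset.mem_filter, Finset.mem_univ, true_and] at hB
      refine ⟨B + C, ?_, add_sub_cancel_right B C⟩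
      simp only [Finset.mem_filter, Finset.mem_univ, true_and]
      have := haff B C
      rw [hB, sub_self, sub_eq_zero, hC'] at this
      exact this
  rw [Finset.sum_congr rfl fun Z _ => (Finset.sum_congr rfl (g := fun _ => phiN ((Fintype.card F : ℤ) ^ f.natDegree)
    (Module.finrank (AdjoinRoot f) W + Module.finrank (AdjoinRoot f) (LinearMap.ker Z))) fun B hB => by
      rw [(Finset.mem_filter.1 hB).2]).trans (Finset.sum_const _)]
  simp only [hfib, nsmul_eq_mul]
  rw [← Finset.mul_sum, hzero, mul_zero]

end Translates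

end CfsgLib.Cuspidal
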