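import Cfsg.Agent.Lib.Char.Exceptional.Cuspidal.Struct
import Cfsg.Agent.Lib.Char.Exceptional.Cuspidal.Lift
import Cfsg.Agent.Lib.Char.Exceptional.Cuspidal.Frob

/-!
# The values of the alternating sum of Brauer lifts
-/

set_option autoImplicit false
set_option linter.all false

namespace CfsgLib.Cuspidal

open Cfsg CfsgLib.Blocks CfsgLib.IBr CfsgLib.Star MonoidAlgebra
open Polynomial (aeval)

variable {n : ℕ} {F : Type*} [Field F] [Fintype F] [DecidableEq F] {p : ℕ} [Fact p.Prime] {M : Ideal AlgInt}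
  [M.IsPrime] (ι : F →+* Res M)

theorem rho_injective (g : GL (Fin n) F) : Function.Injective (rho g) := fun a b h => by
  have := congrArg (rho g⁻¹) h
  simpa [← Module.End.mul_apply, ← map_mul] using this

theorem inv_pow {g : GL (Fin n) F} {W : Submodule F (Fin n → F)} (h : Inv (rho g) W) (m : ℕ) :
    Inv (rho (g ^ m)) W := by
  intro w hw
  induction m generalizing w with
  | zero => simpa using hw
  | succ m ih => rw [pow_succ, map_mul, Module.End.mul_apply]; exact ih _ (h w hw)

theorem exists_regular_pow (g : GL (Fin n) F) :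
    ∃ m : ℕ, (pPt p g)⁻¹ * g = g ^ m ∧ ¬ p ∣ orderOf ((pPt p g)⁻¹ * g) := by
  obtain ⟨u, s, hu, hs, hc, hg⟩ := exists_decomp (p := p) g
  have he : (pPt p g)⁻¹ * g = s := by rw [hg, pPt_mul hu hs hc, inv_mul_cancel_left]
  have hmem : (pPt p g)⁻¹ * g ∈ Subgroup.zpowers g :=
    mul_mem (inv_mem (mem_zpowers_pPart (isPPart_pPt g))) (Subgroup.mem_zpowers g)
  rw [← mem_powers_iff_mem_zpowers] at hmem
  obtain ⟨m, hm⟩ := hmem
  exact ⟨m, hm.symm, by rw [he]; exact hs⟩

theorem bar_sup (Y Z : Submodule F (Fin n → F)) : bar ι (Y ⊔ Z) = bar ι Y ⊔ bar ι Z := by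
  refine le_antisymm (Submodule.span_le.2 ?_) (sup_le (Submodule.span_mono (Set.image_mono (SetLike.coe_subset_coe.2 le_sup_left)))
    (Submodule.span_mono (Set.image_mono (SetLike.coe_subset_coe.2 le_sup_right))))
  rintro _ ⟨v, hv, rfl⟩
  obtain ⟨a, ha, b, hb, rfl⟩ := Submodule.mem_sup.1 hv
  show ι ∘ (a + b) ∈ bar ι Y ⊔ bar ι Z
  rw [show ι ∘ (a + b) = ι ∘ a + ι ∘ b from funext fun i => map_add ι _ _]
  exact Submodule.add_mem_sup (comp_mem_bar ι ha) (comp_mem_bar ι hb)

theorem bar_inf_eq_bot {Y Z : Submodule F (Fin n → F)} (h : Y ⊓ Z = ⊥) : bar ι Y ⊓ bar ι Z = ⊥ := by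
  have h1 := Submodule.finrank_sup_add_finrank_inf_eq (bar ι Y) (bar ι Z)
  have h2 := Submodule.finrank_sup_add_finrank_inf_eq Y Z
  rw [← bar_sup, finrank_bar, finrank_bar, finrank_bar] at h1
  rw [h, finrank_bot] at h2
  exact Submodule.finrank_eq_zero.1 (by omega)

theorem algK_eig (x : GL (Fin n) F) (j : ℕ) :
    algK ι (eigIdem M x j) = resHom M (invO M (orderOf x)) • ∑ t ∈ Finset.range (orderOf x),
      ((resHom M (rootO M (orderOf x)) ^ (orderOf x - 1)) ^ j • rhoK ι x) ^ t := by
  rw [eigIdem, eigO, Algebra.smul_def, map_mul, map_sum, map_mul, map_sum]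
  rw [show red M (algebraMap (localRing M) (MonoidAlgebra (localRing M) (GL (Fin n) F)) (invO M (orderOf x))) =
    algebraMap (Res M) (MonoidAlgebra (Res M) (GL (Fin n) F)) (resHom M (invO M (orderOf x))) by simp [red],
    AlgHom.commutes, Algebra.smul_def]
  refine congrArg₂ (· * ·) rfl (Finset.sum_congr rfl fun t _ => ?_)
  rw [map_pow, red_single, map_pow, algK_single, map_pow, map_pow]

/-- The image of an eigen-idempotent is the eigenspace. -/
theorem map_eig (hM : IsPModular p M) {W : Submodule F (Fin n → F)} {x : GL (Fin n) F} (hx : ¬ p ∣ orderOf x)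
    (hxW : Inv (rho x) W) (j : ℕ) :
    (bar ι W).map (algK ι (eigIdem M x j)) =
      bar ι W ⊓ Module.End.eigenspace (rhoK ι x) (resHom M (rootO M (orderOf x)) ^ j) := by
  set o := orderOf x with ho
  have ho0 : o ≠ 0 := (orderOf_pos x).ne'
  set lam := resHom M (rootO M o) ^ j with hlam
  set cj := (resHom M (rootO M o) ^ (o - 1)) ^ j with hcj
  have hw1 : resHom M (rootO M o) ^ o = 1 := by
    rw [← map_pow, (isPrimitiveRoot_rootO M ho0).pow_eq_one, map_one]
  have hcl : cj * lam = 1 := by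
    rw [hcj, hlam, ← mul_pow, ← pow_succ, Nat.sub_add_cancel (Nat.one_le_iff_ne_zero.2 ho0), hw1, one_pow]
  set Y := cj • rhoK ι x with hY
  have hYo : Y ^ o = 1 := by
    rw [hY, smul_pow, ← map_pow, ho, pow_orderOf_eq_one, map_one, ← ho, hcj, ← pow_mul, ← pow_mul,
      mul_comm j o, ← mul_assoc, mul_comm (o - 1) o, mul_assoc, pow_mul, hw1, one_pow, one_smul]
  have hfix : ∀ v, Y v = v ↔ v ∈ Module.End.eigenspace (rhoK ι x) lam := by
    intro v
    rw [Module.End.mem_eigenspace_iff, hY, LinearMap.smul_apply]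
    constructor
    · intro h
      calc rhoK ι x v = (lam * cj) • rhoK ι x v := by rw [mul_comm, hcl, one_smul]
        _ = lam • v := by rw [mul_smul, h]
    · intro h
      rw [h, smul_smul, hcl, one_smul]
  have hYU : ∀ v ∈ bar ι W, Y v ∈ bar ι W := fun v hv =>
    Submodule.smul_mem _ _ (bar_inv ι hxW hv)
  rw [algK_eig, ← ho, ← hcj, ← hY]
  set E := resHom M (invO M o) • ∑ t ∈ Finset.range o, Y ^ t with hE
  refine le_antisymm ?_ ?_
  · rintro _ ⟨v, hv, rfl⟩
    refine ⟨?_, (hfix _).1 ?_⟩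
    · rw [hE, LinearMap.smul_apply, LinearMap.sum_apply]
      refine Submodule.smul_mem _ _ (Submodule.sum_mem _ fun t _ => ?_)
      clear * - hv hYU
      induction t with
      | zero => exact hv
      | succ t ih => rw [pow_succ', Module.End.mul_apply]; exact hYU _ ih
    · have h := mul_geom_sum Y o
      rw [hYo, sub_self, sub_mul, one_mul, sub_eq_zero] at h
      rw [← Module.End.mul_apply, hE, mul_smul_comm, h]
  · rintro v ⟨hv, hv'⟩
    have hv1 : Y v = v := (hfix v).2 hv'
    refine ⟨v, hv, ?_⟩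
    have hpt : ∀ t, (Y ^ t) v = v := fun t => by
      induction t with
      | zero => rfl
      | succ t ih => rw [pow_succ, Module.End.mul_apply, hv1, ih]
    rw [hE, LinearMap.smul_apply, LinearMap.sum_apply, Finset.sum_congr rfl fun t _ => hpt t, Finset.sum_const,
      Finset.card_range, ← Nat.cast_smul_eq_nsmul (Res M), smul_smul, ← map_natCast (resHom M), ← map_mul,
      invO_mul_natCast hM hx, map_one, one_smul]

theorem br_sup (hM : IsPModular p M) {g : GL (Fin n) F} {Y Z : Submodule F (Fin n → F)} (hY : Inv (rho g) Y)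
    (hZ : Inv (rho g) Z) (h : Y ⊓ Z = ⊥) : br ι p (Y ⊔ Z) g = br ι p Y g + br ι p Z g := by
  obtain ⟨m, hm, hreg⟩ := exists_regular_pow (p := p) g
  set x := (pPt p g)⁻¹ * g with hxdef
  rw [br, br, br, ← hxdef, brVal_of_regular hreg, brVal_of_regular hreg, brVal_of_regular hreg,
    ← Finset.sum_add_distrib]
  refine Finset.sum_congr rfl fun j _ => ?_
  have hxY : Inv (rho x) Y := hm ▸ inv_pow hY m
  have hxZ : Inv (rho x) Z := hm ▸ inv_pow hZ m
  have hle : ∀ {A : Submodule F (Fin n → F)}, Inv (rho x) A → (bar ι A).map (algK ι (eigIdem M x j)) ≤ bar ι A :=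
    fun hA => by rw [map_eig ι hM hreg hA]; exact inf_le_left
  have hd := Submodule.finrank_sup_add_finrank_inf_eq ((bar ι Y).map (algK ι (eigIdem M x j)))
    ((bar ι Z).map (algK ι (eigIdem M x j)))
  rw [show (bar ι Y).map (algK ι (eigIdem M x j)) ⊓ (bar ι Z).map (algK ι (eigIdem M x j)) = ⊥ from
    eq_bot_iff.2 ((inf_le_inf (hle hxY) (hle hxZ)).trans (bar_inf_eq_bot ι h).le), finrank_bot, add_zero] at hd
  rw [rkW, rkW, rkW, bar_sup, Submodule.map_sup, hd]
  push_cast
  ring

/-- The roots of a polynomial in the residue field. -/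
noncomputable def rootsK (f : Polynomial F) : Finset (Res M) := by
  classical exact (f.map ι).roots.toFinset

/-- The sum of the lifts of the roots of a polynomial. -/
noncomputable def rootSum (p : ℕ) (f : Polynomial F) : ℂ := ∑ c ∈ rootsK ι f, tau p M c

theorem charpoly_bar {g : GL (Fin n) F} {W : Submodule F (Fin n → F)} (hW : Inv (rho g) W)
    {f : Polynomial F} (hf : Irreducible f) (hmon : f.Monic) {N : ℕ}
    (hN : ∀ w ∈ W, aeval (rho g) (f ^ N) w = 0) :
    ∃ i : ℕ, Module.finrank F W = i * f.natDegree ∧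
      ((rhoK ι g).restrict (fun x (hx : x ∈ bar ι W) => bar_inv ι hW hx)).charpoly = (f.map ι) ^ i ∧
      aeval ((rhoK ι g).restrict (fun x (hx : x ∈ bar ι W) => bar_inv ι hW hx)) ((f ^ N).map ι) = 0 := by
  classical
  letI := ι.toAlgebra
  haveI : IsAlgClosed (Res M) := isAlgClosed_res
  set X' := (rhoK ι g).restrict (fun x (hx : x ∈ bar ι W) => bar_inv ι hW hx)
  let b := Module.finBasis F W
  set T' := (rho g).restrict hW
  let m : Fin (Module.finrank F W) → bar ι W := fun i => ⟨ι ∘ (b i : Fin n → F), comp_mem_bar ι (b i).2⟩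
  have hli : LinearIndependent (Res M) m :=
    LinearIndependent.of_comp (bar ι W).subtype (linearIndependent_comp ι (b.linearIndependent.map' W.subtype W.ker_subtype))
  let b' : Module.Basis (Fin (Module.finrank F W)) (Res M) (bar ι W) := Module.Basis.mk hli (by
    rw [top_le_iff]
    exact Submodule.eq_top_of_finrank_eq (by rw [finrank_span_eq_card hli, Fintype.card_fin, finrank_bar]))
  have hcomp : ∀ w : W, ι ∘ (w : Fin n → F) = ∑ i, ι (b.repr w i) • (ι ∘ (b i : Fin n → F)) := by
    intro w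
    have h := congrArg (fun w : W => (w : Fin n → F)) (b.sum_repr w)
    simp only [AddSubmonoidClass.coe_finset_sum, Submodule.coe_smul] at h
    funext c
    have hc := congrFun h c
    simp only [Finset.sum_apply, Pi.smul_apply, smul_eq_mul] at hc
    simp only [Finset.sum_apply, Pi.smul_apply, smul_eq_mul, Function.comp_apply, ← map_mul, ← map_sum, hc]
  have hmat : LinearMap.toMatrix b' b' X' = (LinearMap.toMatrix b b T').map ι := by
    have hX : ∀ j, X' (b' j) = ∑ i, ι (b.repr (T' (b j)) i) • b' i := by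
      intro j
      refine Subtype.ext ?_
      simp only [b', Module.Basis.mk_apply, AddSubmonoidClass.coe_finset_sum, Submodule.coe_smul, m]
      rw [← hcomp]
      exact rhoK_comp ι g _
    ext i j
    rw [LinearMap.toMatrix_apply, Matrix.map_apply, LinearMap.toMatrix_apply, hX, b'.repr_sum_self]
  have hchar : X'.charpoly = T'.charpoly.map ι := by
    rw [← LinearMap.charpoly_toMatrix X' b', hmat, Matrix.charpoly_map, LinearMap.charpoly_toMatrix]
  have hT' : aeval T' (f ^ N) = 0 := LinearMap.ext fun w => Subtype.ext (by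
    rw [aeval_restrict]; exact hN w w.2)
  have hX' : aeval X' ((f ^ N).map ι) = 0 := by
    have h1 : aeval (LinearMap.toMatrixAlgEquiv b T') (f ^ N) = 0 := by
      rw [Polynomial.aeval_algHom_apply, hT', map_zero]
    have h2 := congrArg (fun A => (Algebra.ofId F (Res M)).mapMatrix A) h1
    rw [map_zero, ← Polynomial.aeval_algHom_apply] at h2
    have h3 : (Algebra.ofId F (Res M)).mapMatrix (LinearMap.toMatrixAlgEquiv b T') = LinearMap.toMatrixAlgEquiv b' X' :=
      hmat.symm
    rw [h3, ← Polynomial.aeval_map_algebraMap (Res M), Polynomial.aeval_algHom_apply] at h2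
    exact (map_eq_zero_iff _ (LinearMap.toMatrixAlgEquiv b').injective).1 h2
  have hroots : ∀ c : Res M, (T'.charpoly.map ι).IsRoot c → aeval c f = 0 := by
    intro c hc
    rw [← hchar] at hc
    obtain ⟨v, hv⟩ := Module.End.HasEigenvalue.exists_hasEigenvector
      ((Module.End.hasEigenvalue_iff_isRoot_charpoly X' c).2 hc)
    have h := Module.End.aeval_apply_of_hasEigenvector (p := (f ^ N).map ι) hv
    rw [hX', LinearMap.zero_apply] at h
    have h' := (smul_eq_zero.1 h.symm).resolve_right hv.2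
    have h'' : aeval c (f ^ N) = 0 := by rw [Polynomial.aeval_def, ← Polynomial.eval_map]; exact h'
    rw [map_pow] at h''
    exact eq_zero_of_pow_eq_zero h''
  have key : ∀ (D : ℕ) (P : Polynomial F), P.natDegree = D → P.Monic →
      (∀ c : Res M, (P.map ι).IsRoot c → aeval c f = 0) → ∃ i, P = f ^ i := by
    intro D
    induction D using Nat.strong_induction_on with
    | _ D ih =>
      intro P hD hP hr
      by_cases h0 : P.natDegree = 0
      · exact ⟨0, by rw [pow_zero, Polynomial.eq_one_of_monic_natDegree_zero hP h0]⟩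
      obtain ⟨c, hc⟩ := IsAlgClosed.exists_root (P.map ι) (by
        rw [Polynomial.degree_map, Polynomial.degree_eq_natDegree hP.ne_zero]; exact_mod_cast h0)
      obtain ⟨P', rfl⟩ : f ∣ P := (hf.dvd_iff_aeval_eq_zero (hr c hc)).1
        (by rw [Polynomial.aeval_def, ← Polynomial.eval_map]; exact hc)
      have hP' : P'.Monic := hmon.of_mul_monic_left hP
      obtain ⟨i, rfl⟩ := ih P'.natDegree (by
        rw [← hD, hmon.natDegree_mul hP']; have := hf.natDegree_pos; omega) P' rfl hP' (fun c' hc' => hr c' (by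
        rw [Polynomial.map_mul, Polynomial.IsRoot, Polynomial.eval_mul, hc'.eq_zero, mul_zero]))
      exact ⟨i + 1, by rw [pow_succ']⟩
  obtain ⟨i, hi⟩ := key _ _ rfl (LinearMap.charpoly_monic T') hroots
  refine ⟨i, ?_, by rw [hchar, hi, Polynomial.map_pow], hX'⟩
  rw [← LinearMap.charpoly_natDegree T', hi, Polynomial.natDegree_pow]

variable (hM : IsPModular p M)
include hM

/-- The Brauer lift on a subspace killed by an irreducible polynomial. -/
theorem br_kill {g : GL (Fin n) F} {W : Submodule F (Fin n → F)} (hW : Inv (rho g) W) {f : Polynomial F}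
    (hf : Irreducible f) (hmon : f.Monic) (hfW : ∀ w ∈ W, aeval (rho g) f w = 0) :
    br ι p W g = ((Module.finrank F W / f.natDegree : ℕ) : ℂ) * rootSum ι p f := by
  classical
  letI := ι.toAlgebra
  haveI : CharP (Res M) p := charP_residueField hM
  obtain ⟨i, hi, hchar, hkill⟩ := charpoly_bar ι hW hf hmon (N := 1) (by simpa using hfW)
  rw [pow_one] at hkill
  set U := bar ι W
  set X' := (rhoK ι g).restrict (fun x (hx : x ∈ U) => bar_inv ι hW hx)
  obtain ⟨m, hm, hreg⟩ := exists_regular_pow (p := p) g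
  set x := (pPt p g)⁻¹ * g with hxdef
  -- the `p`-part acts trivially on `W`
  have hxg : ∀ w ∈ W, rho x w = rho g w := by
    intro w hw
    have hQ1 : f ∣ Polynomial.X ^ Fintype.card F ^ f.natDegree - Polynomial.X := by
      rw [← Nat.card_eq_fintype_card]
      exact (hf.natDegree_dvd_iff_dvd_X_pow_card_pow_sub_X).1 dvd_rfl
    obtain ⟨R, hR⟩ := hQ1
    have hT : ∀ v ∈ W, rho (g ^ (Fintype.card F ^ f.natDegree - 1)) v = v := by
      intro v hv
      refine rho_injective g ?_
      rw [← Module.End.mul_apply, ← map_mul, ← pow_succ', Nat.sub_add_cancel (Nat.one_le_pow _ _ Fintype.card_pos)]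
      have h := congrArg (fun P => aeval (rho g) P v) hR
      simp only [map_sub, map_pow, Polynomial.aeval_X, LinearMap.sub_apply] at h
      rw [mul_comm f R, map_mul, Module.End.mul_apply, hfW v hv, map_zero, sub_eq_zero, ← map_pow] at h
      exact h
    have hTl : ∀ (l : ℕ), ∀ v ∈ W, rho ((g ^ (Fintype.card F ^ f.natDegree - 1)) ^ l) v = v := by
      intro l
      induction l with
      | zero => intro v _; simp
      | succ l ih => intro v hv; rw [pow_succ, map_mul, Module.End.mul_apply, hT _ hv, ih v hv]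
    obtain ⟨a, ha⟩ := (isPPart_pPt (p := p) g).choose_spec.2.2.1
    have hu : ∀ v ∈ W, rho (pPt p g) v = v := by
      obtain ⟨l, hl⟩ : ∃ l : ℕ, g ^ l = pPt p g :=
        mem_powers_iff_mem_zpowers.2 (mem_zpowers_pPart (isPPart_pPt g))
      intro v hv
      set u := (rho (pPt p g)).restrict (hl ▸ inv_pow hW l : Inv (rho (pPt p g)) W)
      have hup : ∀ (t : ℕ) (z : W), ((u ^ t) z : Fin n → F) = rho (pPt p g ^ t) z := by
        intro t
        induction t with
        | zero => intro z; simp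
        | succ t ih => intro z; rw [pow_succ, Module.End.mul_apply, ih, pow_succ, map_mul]; rfl
      have hu1 : u ^ (p ^ a) = 1 := LinearMap.ext fun z => Subtype.ext (by
        rw [hup, ← ha, pow_orderOf_eq_one, map_one]; rfl)
      have hu2 : u ^ (Fintype.card F ^ f.natDegree - 1) = 1 := LinearMap.ext fun z => Subtype.ext (by
        show ((u ^ (Fintype.card F ^ f.natDegree - 1)) z : Fin n → F) = z
        rw [hup, ← hl, ← pow_mul, mul_comm, pow_mul]
        exact hTl l z z.2)
      have hcop : Nat.Coprime (p ^ a) (Fintype.card F ^ f.natDegree - 1) := by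
        refine Nat.Coprime.pow_left a ((Nat.Prime.coprime_iff_not_dvd Fact.out).2 fun hd => ?_)
        haveI : CharP F p := (ι.charP_iff ι.injective p).2 inferInstance
        obtain ⟨e, -, he⟩ := FiniteField.card F p
        have h2 : p ∣ Fintype.card F ^ f.natDegree :=
          dvd_pow (he ▸ dvd_pow_self p e.ne_zero) hf.natDegree_pos.ne'
        have h3 := Nat.dvd_sub h2 hd
        rw [Nat.sub_sub_self (Nat.one_le_pow _ _ Fintype.card_pos)] at h3
        exact (Fact.out : p.Prime).one_lt.ne' (Nat.dvd_one.1 h3)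
      have h := pow_gcd_eq_one.2 ⟨hu1, hu2⟩
      rw [hcop, pow_one] at h
      exact congrArg Subtype.val (LinearMap.congr_fun h ⟨v, hv⟩)
    rw [hxdef, map_mul, Module.End.mul_apply]
    conv_lhs => rw [← hu _ (hW w hw), ← Module.End.mul_apply, ← map_mul, inv_mul_cancel, map_one,
      Module.End.one_apply]
  have hxW : Inv (rho x) W := hm ▸ inv_pow hW m
  have hxU : ∀ v ∈ U, rhoK ι x v = rhoK ι g v := by
    intro v hv
    refine Submodule.span_induction (fun y hy => ?_) (by simp) (fun a b _ _ ha hb => by simp [ha, hb])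
      (fun c a _ ha => by simp [ha]) hv
    obtain ⟨w, hw, rfl⟩ := hy
    rw [rhoK_comp, rhoK_comp, hxg w hw]
  -- the eigenspaces
  set S := rootsK ι f with hS
  have hsep : (f.map ι).Separable := (PerfectField.separable_of_irreducible hf).map
  have hdim : ∀ c : Res M, (Module.finrank (Res M) (U ⊓ Module.End.eigenspace (rhoK ι x) c : Submodule (Res M) (Fin n → Res M))) =
      if c ∈ S then i else 0 := by
    intro c
    have h1 : (Module.End.eigenspace X' c).map U.subtype = U ⊓ Module.End.eigenspace (rhoK ι x) c := by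
      ext v
      simp only [Submodule.mem_map, Submodule.mem_inf, Module.End.mem_eigenspace_iff, Submodule.coe_subtype]
      constructor
      · rintro ⟨z, hz, rfl⟩
        exact ⟨z.2, by rw [hxU _ z.2]; exact congrArg Subtype.val hz⟩
      · rintro ⟨hv, he⟩
        exact ⟨⟨v, hv⟩, Subtype.ext ((hxU v hv).symm.trans he), rfl⟩
    rw [← h1, (Submodule.equivMapOfInjective _ U.subtype_injective _).finrank_eq.symm,
      ← (Module.End.isSemisimple_of_squarefree_aeval_eq_zero hsep.squarefree hkill).isFinitelySemisimple.maxGenEigenspace_eq_eigenspace,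
      LinearMap.finrank_maxGenEigenspace_eq, hchar, ← Polynomial.count_roots, Polynomial.roots_pow,
      Multiset.count_nsmul, Multiset.count_eq_of_nodup (Polynomial.nodup_roots hsep)]
    simp only [hS, rootsK, Multiset.mem_toFinset]
    split_ifs <;> simp
  rw [hi, Nat.mul_div_cancel _ hf.natDegree_pos]
  rw [br, ← hxdef, brVal_of_regular hreg]
  set o := orderOf x with ho
  have hprim := res_primitive hM hreg
  rcases Nat.eq_zero_or_pos i with hi0 | hipos
  · rw [hi0, Nat.cast_zero, zero_mul]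
    refine Finset.sum_eq_zero fun j _ => ?_
    rw [rkW, map_eig ι hM hreg hxW, hdim, hi0]
    simp
  have hsub : S ⊆ (Finset.range o).image (fun j => resHom M (rootO M o) ^ j) := by
    intro c hc
    have h := hdim c
    rw [if_pos hc] at h
    obtain ⟨v, hv, hv0⟩ := Submodule.exists_mem_ne_zero_of_ne_bot
      (fun e : U ⊓ Module.End.eigenspace (rhoK ι x) c = ⊥ => by rw [e, finrank_bot] at h; omega)
    have hp : ∀ t, (rhoK ι x ^ t) v = c ^ t • v := by
      intro t
      induction t with
      | zero => simp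
      | succ t ih => rw [pow_succ', Module.End.mul_apply, ih, map_smul, Module.End.mem_eigenspace_iff.1 hv.2,
          smul_smul, pow_succ]
    have h1 := hp o
    rw [← map_pow, ho, pow_orderOf_eq_one, map_one, ← ho, Module.End.one_apply] at h1
    have hco : c ^ o = 1 := by
      by_contra hne
      refine hv0 ((smul_eq_zero.1 (?_ : (c ^ o - 1) • v = 0)).resolve_left (sub_ne_zero.2 hne))
      rw [sub_smul, one_smul, ← h1, sub_self]
    obtain ⟨j, hj, rfl⟩ := exists_pow_eq hM hreg hco
    exact Finset.mem_image.2 ⟨j, Finset.mem_range.2 hj, rfl⟩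
  calc ∑ j ∈ Finset.range o, (rootO M o : ℂ) ^ j * (rkW ι W (eigIdem M x j) : ℂ)
      = ∑ j ∈ Finset.range o, (fun c => tau p M c * (if c ∈ S then (i : ℂ) else 0)) (resHom M (rootO M o) ^ j) := by
        refine Finset.sum_congr rfl fun j _ => ?_
        rw [rkW, map_eig ι hM hreg hxW, hdim]
        show _ = tau p M (resHom M (rootO M o) ^ j) * _
        rw [tau_pow Fact.out hM hreg]
        split_ifs <;> simp
    _ = ∑ c ∈ (Finset.range o).image (fun j => resHom M (rootO M o) ^ j), tau p M c * (if c ∈ S then (i : ℂ) else 0) := by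
        rw [Finset.sum_image]
        exact fun a ha b hb h => hprim.pow_inj (Finset.mem_range.1 ha) (Finset.mem_range.1 hb) h
    _ = ∑ c ∈ S, tau p M c * (i : ℂ) := by
        simp only [mul_ite, mul_zero]
        rw [Finset.sum_ite_mem, Finset.inter_eq_right.2 hsub]
    _ = _ := by rw [rootSum, Finset.mul_sum]; exact Finset.sum_congr rfl fun c _ => mul_comm _ _

omit hM in
open scoped Classical in
/-- The alternating sum of the Brauer lifts of the invariant subspaces. -/
noncomputable def jFun (p : ℕ) (g : GL (Fin n) F) : ℂ :=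
  -∑ W : Submodule F (Fin n → F), if Inv (rho g) W then (mu (rho g) W : ℂ) * br ι p W g else 0

theorem isGen_jFun : IsGeneralizedCharacter (GL (Fin n) F) (jFun ι p) := by
  classical
  letI := subAction (rho (n := n) (F := F))
  have h : jFun ι p = -fun g : GL (Fin n) F => ∑ W : Submodule F (Fin n → F),
      if g • W = W then (mu (rho g) W : ℂ) * br ι p W g else 0 := by
    funext g
    rw [jFun, Pi.neg_apply]
    congr 1
    exact Finset.sum_congr rfl fun W _ => by simp only [inv_iff_smul_eq]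
  rw [h]
  refine Char.IsGen.neg (isGen_sum_fixed _ (fun k W g _ => ?_) fun W => ?_)
  · show (mu (rho (k * g * k⁻¹)) (W.map (rho k)) : ℂ) * br ι p (W.map (rho k)) (k * g * k⁻¹) = _
    rw [mu_conj, br_conj ι hM]
  · haveI : Fintype (MulAction.stabilizer (GL (Fin n) F) W) := Fintype.ofFinite _
    exact Char.IsGen.mul (isGen_mu W) (isGen_br ι hM W _ fun s hs => (inv_iff_smul_eq s W).2 hs)

/-- The alternating sum vanishes on elements with two coprime components. -/
theorem jFun_eq_zero {g : GL (Fin n) F} {P Q : Polynomial F} (hPQ : IsCoprime P Q)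
    (h0 : aeval (rho g) (P * Q) = 0) (hP : LinearMap.ker (aeval (rho g) P) ≠ ⊥)
    (hQ : LinearMap.ker (aeval (rho g) Q) ≠ ⊥) : jFun ι p g = 0 := by
  classical
  set T := rho g
  set V₁ := LinearMap.ker (aeval T P)
  set V₂ := LinearMap.ker (aeval T Q)
  obtain ⟨a, b, hab⟩ := hPQ
  have hI₁ : Inv T V₁ := inv_ker_aeval T P
  have hI₂ : Inv T V₂ := inv_ker_aeval T Q
  have hsp : ∀ v, v = aeval T (a * P) v + aeval T (b * Q) v := fun v => by
    rw [← LinearMap.add_apply, ← map_add, hab, map_one]; rfl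
  have hdis : V₁ ⊓ V₂ = ⊥ := (Submodule.eq_bot_iff _).2 fun v ⟨h1, h2⟩ => by
    rw [hsp v, map_mul, map_mul, Module.End.mul_apply, Module.End.mul_apply,
      LinearMap.mem_ker.1 h1, LinearMap.mem_ker.1 h2, map_zero, map_zero, add_zero]
  have hsplit : ∀ W, Inv T W → W ≤ (W ⊓ V₁) ⊔ (W ⊓ V₂) := by
    intro W hW w hw
    rw [hsp w, add_comm]
    refine Submodule.add_mem_sup ⟨Inv.aeval T hW _ hw, ?_⟩ ⟨Inv.aeval T hW _ hw, ?_⟩
    · show aeval T P (aeval T (b * Q) w) = 0
      rw [← Module.End.mul_apply, ← map_mul, show P * (b * Q) = b * (P * Q) by ring, map_mul, h0, mul_zero]; rfl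
    · show aeval T Q (aeval T (a * P) w) = 0
      rw [← Module.End.mul_apply, ← map_mul, show Q * (a * P) = a * (P * Q) by ring, map_mul, h0, mul_zero]; rfl
  have hsupI : ∀ {A B}, Inv T A → Inv T B → Inv T (A ⊔ B) := by
    intro A B hA hB w hw
    obtain ⟨a, ha, b, hb, rfl⟩ := Submodule.mem_sup.1 hw
    rw [map_add]
    exact Submodule.add_mem_sup (hA a ha) (hB b hb)
  have hpr : ∀ {A B}, A ≤ V₁ → B ≤ V₂ → (A ⊔ B) ⊓ V₁ = A := by
    intro A B hA hB
    rw [sup_inf_assoc_of_le _ hA, show B ⊓ V₁ = ⊥ from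
      eq_bot_iff.2 (le_trans (le_inf inf_le_right (inf_le_left.trans hB)) hdis.le), sup_bot_eq]
  have hpr₂ : ∀ {A B}, A ≤ V₁ → B ≤ V₂ → (A ⊔ B) ⊓ V₂ = B := by
    intro A B hA hB
    rw [sup_comm, sup_inf_assoc_of_le _ hB, show A ⊓ V₂ = ⊥ from
      eq_bot_iff.2 (le_trans (inf_le_inf_right _ hA) hdis.le), sup_bot_eq]
  set I₁ := Finset.univ.filter (fun X => X ≤ V₁ ∧ Inv T X)
  set I₂ := Finset.univ.filter (fun X => X ≤ V₂ ∧ Inv T X)
  rw [jFun, ← Finset.sum_filter, neg_eq_zero]
  have hre : ∑ W ∈ Finset.univ.filter (fun W => Inv T W), (mu T W : ℂ) * br ι p W g =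
      ∑ Z ∈ I₁ ×ˢ I₂, (mu T (Z.1 ⊔ Z.2) : ℂ) * br ι p (Z.1 ⊔ Z.2) g := by
    refine (Finset.sum_bij (fun Z _ => Z.1 ⊔ Z.2) (fun Z hZ => ?_) (fun Z hZ Z' hZ' e => ?_) (fun W hW => ?_)
      (fun _ _ => rfl)).symm
    · simp only [I₁, I₂, Finset.mem_product, Finset.mem_filter, Finset.mem_univ, true_and] at hZ ⊢
      exact hsupI hZ.1.2 hZ.2.2
    · simp only [I₁, I₂, Finset.mem_product, Finset.mem_filter, Finset.mem_univ, true_and] at hZ hZ'
      exact Prod.ext (by rw [← hpr hZ.1.1 hZ.2.1, e, hpr hZ'.1.1 hZ'.2.1])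
        (by rw [← hpr₂ hZ.1.1 hZ.2.1, e, hpr₂ hZ'.1.1 hZ'.2.1])
    · simp only [Finset.mem_filter, Finset.mem_univ, true_and] at hW
      refine ⟨(W ⊓ V₁, W ⊓ V₂), ?_, le_antisymm (sup_le inf_le_left inf_le_left) (hsplit W hW)⟩
      simp only [I₁, I₂, Finset.mem_product, Finset.mem_filter, Finset.mem_univ, true_and]
      exact ⟨⟨inf_le_right, fun w hw => ⟨hW w hw.1, hI₁ w hw.2⟩⟩, inf_le_right, fun w hw => ⟨hW w hw.1, hI₂ w hw.2⟩⟩
  rw [hre, Finset.sum_product]
  rw [Finset.sum_congr rfl fun A hA => Finset.sum_congr rfl fun B hB => by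
    simp only [I₁, I₂, Finset.mem_filter, Finset.mem_univ, true_and] at hA hB
    rw [br_sup ι hM hA.2 hB.2 (eq_bot_iff.2 ((inf_le_inf hA.1 hB.1).trans hdis.le)), mul_add]]
  rw [Finset.sum_congr rfl fun A _ => Finset.sum_add_distrib, Finset.sum_add_distrib]
  have h1 : ∀ A ∈ I₁, ∑ B ∈ I₂, (mu T (A ⊔ B) : ℂ) * br ι p A g = 0 := by
    intro A hA
    simp only [I₁, Finset.mem_filter, Finset.mem_univ, true_and] at hA
    rw [← Finset.sum_mul, ← Int.cast_sum, sum_mu_sup T hI₂ hdis hQ hsplit hI₁ hA.2 hA.1, Int.cast_zero, zero_mul]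
  have h2 : ∀ B ∈ I₂, ∑ A ∈ I₁, (mu T (A ⊔ B) : ℂ) * br ι p B g = 0 := by
    intro B hB
    simp only [I₂, Finset.mem_filter, Finset.mem_univ, true_and] at hB
    have hflip : ∀ W, Inv T W → W ≤ (W ⊓ V₂) ⊔ (W ⊓ V₁) := fun W hW => by rw [sup_comm]; exact hsplit W hW
    rw [← Finset.sum_mul, ← Int.cast_sum,
      Finset.sum_congr rfl (fun A (_ : A ∈ I₁) => congrArg (mu T) (sup_comm A B)),
      sum_mu_sup T hI₁ (by rw [inf_comm, hdis]) hP hflip hI₂ hB.2 hB.1, Int.cast_zero, zero_mul]
  rw [Finset.sum_eq_zero h1, Finset.sum_comm, Finset.sum_eq_zero h2, add_zero]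

/-- The value at a primary element. -/
theorem jFun_primary (hn : 0 < n) {g : GL (Fin n) F} {f : Polynomial F} (hf : Irreducible f) (hmon : f.Monic)
    {N : ℕ} (hN : aeval (rho g) (f ^ N) = 0) :
    jFun ι p g = (phiN ((Fintype.card F : ℤ) ^ f.natDegree)
      (Module.finrank F (LinearMap.ker (aeval (rho g) f)) / f.natDegree) : ℂ) * rootSum ι p f := by
  classical
  haveI := Fact.mk hf
  set T := rho g
  set K := LinearMap.ker (aeval T f) with hK
  have hKI : Inv T K := inv_ker_aeval T f
  rw [jFun, ← Finset.sum_filter]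
  rw [← Finset.sum_subset (s₁ := Finset.univ.filter (fun W => W ≤ K ∧ Inv T W))
    (fun W hW => by simp only [Finset.mem_filter] at hW ⊢; exact ⟨hW.1, hW.2.2⟩)
    (fun W hW hW' => by
      simp only [Finset.mem_filter, Finset.mem_univ, true_and] at hW hW'
      rw [mu_eq_zero_of_not_le T hN hW (fun h => hW' ⟨h, hW⟩), Int.cast_zero, zero_mul])]
  have hterm : ∀ W ∈ Finset.univ.filter (fun W => W ≤ K ∧ Inv T W), (mu T W : ℂ) * br ι p W g =
      ((mob ((Fintype.card F : ℤ) ^ f.natDegree) (Module.finrank F W / f.natDegree) *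
        ((Module.finrank F W / f.natDegree : ℕ) : ℤ) : ℤ) : ℂ) * rootSum ι p f := by
    intro W hW
    simp only [Finset.mem_filter, Finset.mem_univ, true_and] at hW
    have hfW : ∀ w ∈ W, aeval T f w = 0 := fun w hw => hW.1 hw
    rw [mu_eq_mob (f := f) T hW.2 hfW, br_kill ι hM hW.2 hf hmon hfW, Int.cast_mul, Int.cast_natCast, mul_assoc]
  rw [Finset.sum_congr rfl hterm, ← Finset.sum_mul, ← Int.cast_sum,
    (sum_mob_inv (f := f) T K hKI fun w hw => hw).2, if_neg ?_, Int.cast_neg, neg_mul, neg_neg]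
  intro h0
  have key : ∀ i : ℕ, Function.Injective (aeval T (f ^ i)) := by
    intro i
    induction i with
    | zero => rw [pow_zero, map_one]; exact Function.injective_id
    | succ i ih =>
      rw [pow_succ, map_mul]
      exact ih.comp (LinearMap.ker_eq_bot.1 h0)
  have h := @key N (Pi.single (⟨0, hn⟩ : Fin n) 1) 0 (by simp [hN])
  simpa using congrFun h ⟨0, hn⟩

end CfsgLib.Cuspidal
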